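import Cfsg.Agent.GW.T1
import Cfsg.Agent.Dih.Rank2

/-! Groups with a Sylow 2-subgroup of type `U₃(4)`: 2-local basics. -/

set_option autoImplicit false
set_option linter.unusedVariables false
set_option linter.unusedSectionVars false

namespace Cfsg.Agent.Gs

open Cfsg Cfsg.Agent.BG Cfsg.Agent.Dih Cfsg.Agent.GW Subgroup PHom
open Cfsg.Agent.Inv (ord2_iff sq_of_ord2 ne_one_of_ord2 inv_of_ord2 orderOf_conj' orderOf_conj''
  kf_sq kf_ord kf_comm kf_cases kf_exists_ne kf_of_card kf_mem_centralizer kf_sq_mem_centralizer)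
open scoped commutatorElement

universe u

variable {G : Type u} [Group G] [Finite G] {Y : Type u} [Group Y] [Finite Y] {φ : PHom G Y}
  {A B K M P Q S T X : Subgroup G} {a b g n s u v x y z : G}

theorem p2 : Nat.Prime 2 := Nat.prime_two

/-- Burnside's fusion lemma -/
theorem fus_Z {p : ℕ} (hp : p.Prime) (hT : Syl p T X) (hx : x ∈ C[T]) (hg : g ∈ X)
    (hy : g * x * g⁻¹ ∈ C[T]) : ∃ n ∈ X ⊓ N[T], n * x * n⁻¹ = g * x * g⁻¹ := by
  have h1 : Syl p T (X ⊓ C1[g * x * g⁻¹]) := hT.sub (le_inf hT.le (le_C1_iff.2 hy)) inf_le_left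
  have h2 : Syl p (BG.cj g T) (X ⊓ C1[g * x * g⁻¹]) := (hT.cj_mem hg).sub
    (le_inf (hT.cj_mem hg).le (by rw [← cj_C1]; exact map_mono (le_C1_iff.2 hx))) inf_le_left
  obtain ⟨c, hc, e⟩ := Syl.conj h2 hp h1
  refine ⟨c * g, mem_inf.2 ⟨mul_mem hc.1 hg, mem_N_iff_cj.2 (by rw [cj_mul, e])⟩, ?_⟩
  calc _ = c * (g * x * g⁻¹) * c⁻¹ := by group
    _ = _ := by rw [mem_C1.1 hc.2, mul_inv_cancel_right]

theorem se_Z (hS : Syl 2 S ⊤) (h0 : S ≠ ⊥) (hz : ∀ x ∈ S, x * x = 1 → x ∈ C[S]) (hM : M ≠ ⊤)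
    (h1 : N[S] ≤ M) (h2 : ∀ x ∈ S, orderOf x = 2 → C1[x] ≤ M) : IsStronglyEmbedded M := by
  have hS' := (normG S).trans h1
  refine Inv.se_iff.2 ⟨hM, even_iff_two_dvd.2 ((hS.pi.dvd h0).trans (cardS hS')),
    fun t ht t2 g hg => ?_⟩
  have g2 := (orderOf_conj' g t).trans t2
  obtain ⟨k, hk, e⟩ := Syl.cj_sub (hS.sub hS' le_top) p2 (zpowers_le.2 ht) (pig2 t2)
  obtain ⟨l, hl, e'⟩ := Syl.cj_sub (hS.sub hS' le_top) p2 (zpowers_le.2 hg) (pig2 g2)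
  replace e := e (mem_cj_conj.2 (mem_zpowers _))
  replace e' := e' (mem_cj_conj.2 (mem_zpowers _))
  have k2 := (orderOf_conj' k t).trans t2
  obtain ⟨n, hn, e2⟩ := fus_Z p2 hS (hz _ e (sq_of_ord2 k2)) (mem_top (l * g * k⁻¹)) (by
    convert hz _ e' (sq_of_ord2 ((orderOf_conj' l _).trans g2)) using 1; group)
  have : n⁻¹ * (l * g * k⁻¹) ∈ M := h2 _ e k2
    (mem_C1.2 (by rw [← mul_inv_eq_iff_eq_mul, mul_assoc n⁻¹, mul_inv_rev, ← mul_assoc,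
      mul_assoc n⁻¹, ← e2]; group))
  have := mul_mem (mul_mem (inv_mem hl) (mul_mem (h1 hn.2) this)) hk
  simpa [mul_assoc] using this

/-- `S` is a Sylow 2-subgroup of type `U₃(4)` with centre `A` -/
structure UT (S A : Subgroup G) : Prop where
  kf : IsKleinFour A
  le : A ≤ S
  cen : S ≤ C[A]
  sq : ∀ x ∈ S, x * x ∈ A
  inv : ∀ x ∈ S, x * x = 1 → x ∈ A
  cls : ∀ u ∈ S, u ∉ A → ∀ z ∈ A, ∃ s ∈ S, s * u * s⁻¹ = u * z
  noQ : ∀ u ∈ S, ∀ v ∈ S, u * u = v * v → u * v * (u * v) = u * u → u * u = 1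
  card : #S = 64
  syl : Syl 2 S ⊤

theorem exists_UT {F : Type*} [Field F] [Fintype F] (hF : Fintype.card F = 16)
    (P : Sylow 2 (PSU 3 F 4)) (hS : Syl 2 S ⊤) (e : S ≃* (P : Subgroup (PSU 3 F 4))) :
    UT S Z[S] := by
  obtain ⟨c, -, nq⟩ := psu34_facts hF P e
  obtain ⟨σ, h⟩ := Class.exists_UF (q := 2 ^ 2) hF
  have := charP_two (n := 4) hF
  obtain ⟨e'⟩ : Nonempty ((P : Subgroup (PSU 3 F 4)) ≃* Hs h.σσ) := sylow_PSU3 h P
  replace e := e.trans e'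
  have z : ∀ x : S, (x : G) ∈ Z[S] ↔ (e x).x = 0 := fun x => by
    rw [← Hs.mem_center h.ne_id, Class.mem_center_congr e, mem_center_iff]
    exact ⟨fun hx y => Subtype.ext (mem_C.1 hx.2 y y.2),
      fun hx => mem_inf.2 ⟨x.2, mem_C.2 fun y hy => congrArg Subtype.val (hx ⟨y, hy⟩)⟩⟩
  have sq : ∀ x : S, (x : G) * x = 1 ↔ (e x).x = 0 := fun x => by
    rw [← Hs.sq_eq_one, ← map_mul, MulEquiv.map_eq_one_iff]
    exact ⟨fun h => Subtype.ext h, fun h => congrArg Subtype.val h⟩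
  refine ⟨kf_of_card ?_ fun x hx => (sq ⟨x, hx.1⟩).2 ((z ⟨x, hx.1⟩).1 hx), inf_le_left,
    cent_symm inf_le_right, fun x hx => (z (⟨x, hx⟩ * ⟨x, hx⟩)).2 (by rw [map_mul, Hs.sq_x]),
    fun x hx h2 => (z ⟨x, hx⟩).2 ((sq ⟨x, hx⟩).1 h2), fun u hu hn w hw => ?_,
    fun u hu v hv h1 h2 => congrArg Subtype.val (nq ⟨u, hu⟩ ⟨v, hv⟩ (Subtype.ext h1)
      (Subtype.ext h2)), c, hS⟩
  · rw [show 4 = 2 ^ 2 from rfl, ← Hs.card_center (hσ := h.σσ) h, ← Class.card_center_congr e]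
    exact Nat.card_congr ⟨fun x => ⟨⟨x, x.2.1⟩, mem_center_iff.2 fun y =>
      Subtype.ext (mem_C.1 x.2.2 y y.2)⟩, fun x => ⟨x.1, mem_inf.2 ⟨x.1.2, mem_C.2 fun y hy =>
        congrArg Subtype.val (mem_center_iff.1 x.2 ⟨y, hy⟩)⟩⟩, fun _ => rfl, fun _ => rfl⟩
  · have h1 := (z ⟨u, hu⟩).not.1 hn
    have h2 := (z ⟨w, hw.1⟩).1 hw
    suffices ∃ r, r * e ⟨u, hu⟩ = e ⟨u, hu⟩ * e ⟨w, hw.1⟩ * r by
      obtain ⟨r, hr⟩ := this
      obtain ⟨s, rfl⟩ := e.surjective r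
      rw [← map_mul, ← map_mul, ← map_mul] at hr
      exact ⟨s, s.2, mul_inv_eq_iff_eq_mul.2 (congrArg Subtype.val (e.injective hr))⟩
    generalize e ⟨u, hu⟩ = p at *
    generalize e ⟨w, hw.1⟩ = q at *
    have t2 := CharTwo.two_eq_zero (R := F)
    have h3 := q.h
    rw [h2, mul_zero] at h3
    obtain ⟨y, hy⟩ := Class.exists_trace_eq h.σσ h.ne_id (b := q.a)
      (by linear_combination h3 - q.a * t2)
    have s0 : σ p.x ≠ 0 := (map_ne_zero σ).2 h1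
    obtain ⟨r, hr⟩ := Hs.exists_x (hσ := h.σσ) h.ne_id (y / σ p.x)
    refine ⟨r, ?_⟩
    have h4 : σ p.x * r.x = y := by rw [hr]; field_simp
    have h5 : σ r.x * p.x = σ y := by rw [← h4, map_mul, h.σσ, mul_comm]
    ext
    · simp [h2, add_comm]
    · simp only [Hs.mul_a, Hs.mul_x, h2, map_zero, zero_mul, add_zero]
      linear_combination h4 - h5 + hy - σ y * t2

namespace UT

variable (h : UT S A)
include h

theorem pig : PiG {2} S := h.syl.pi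
theorem pigA : PiG {2} A := h.pig.of_le h.le
theorem abel : Abel A := h.le.trans h.cen
theorem ncyc : ¬ Cyc A := not_cyc_kf h.kf le_rfl
theorem cardA : #A = 4 := h.kf.card_four
theorem ord (hx : x ∈ A) (h1 : x ≠ 1) : orderOf x = 2 := kf_ord h.kf hx h1
theorem sqA (hx : x ∈ A) : x * x = 1 := kf_sq h.kf hx
theorem invA (hx : x ∈ A) : x⁻¹ = x := inv_eq_of_mul_eq_one_right (h.sqA hx)
theorem comm (hx : x ∈ S) (hz : z ∈ A) : x * z = z * x := mem_C_comm h.cen hx hz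
theorem conj (hx : x ∈ S) (hz : z ∈ A) : x * z * x⁻¹ = z := by
  rw [h.comm hx hz, mul_inv_cancel_right]
theorem SC (hx : x ∈ A) : S ≤ C1[x] := h.cen.trans (C_le_C1 hx)
theorem SN : S ≤ N[A] := cents_norm h.cen
theorem sylM (hM : S ≤ M) : Syl 2 S M := h.syl.sub hM le_top
theorem cop (hK : PiG {2}ᶜ K) : (#S).Coprime #K := h.pig.coprime hK
theorem copA (hK : PiG {2}ᶜ K) : (#A).Coprime #K := h.pigA.coprime hK
theorem neA : A ≠ ⊥ := fun e => by have := h.cardA; rw [e, card_bot'] at this; omega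
theorem neS : S ≠ ⊥ := ne_bot_of_le_ne_bot h.neA h.le

theorem sq_mul (hx : x ∈ S) (hz : z ∈ A) : x * z * (x * z) = x * x := by
  rw [mul_assoc, ← mul_assoc z, ← h.comm hx hz, mul_assoc x z, h.sqA hz, mul_one]

theorem comm_memA (hx : x ∈ S) (hy : y ∈ S) : x * y * x⁻¹ * y⁻¹ ∈ A := by
  convert mul_mem (mul_mem (h.sq _ (mul_mem hx hy)) (conj_mem' (h.SN hy) (inv_mem (h.sq _ hx))))
    (inv_mem (h.sq _ hy)) using 1
  group

theorem der : ⁅S, S⁆ ≤ A := comm_le_iff.2 fun x hx y hy => h.comm_memA hx hy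

theorem NS : N[S] ≤ N[A] := fun g hg => mem_N_of fun x hx =>
  h.inv _ (conj_mem hg (h.le hx)) (by
    rw [show g * x * g⁻¹ * (g * x * g⁻¹) = g * (x * x) * g⁻¹ by group, h.sqA hx]; simp)

theorem cj (g : G) : UT (BG.cj g S) (BG.cj g A) := by
  refine ⟨Inv.kf_cj h.kf g, map_mono h.le, cent_cj.2 h.cen, fun x hx => ?_, fun x hx e => ?_,
    fun u hu hn z hz => ?_, fun u hu v hv e1 e2 => ?_, (card_cj _ _).trans h.card,
    h.syl.cj_top g⟩
  · rw [mem_cj] at hx ⊢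
    convert h.sq _ hx using 1; group
  · rw [mem_cj] at hx ⊢
    exact h.inv _ hx (by rw [show g⁻¹ * x * g * (g⁻¹ * x * g) = g⁻¹ * (x * x) * g by group, e]; simp)
  · rw [mem_cj] at hu hn hz
    obtain ⟨s, hs, e⟩ := h.cls _ hu hn _ hz
    refine ⟨_, mem_cj_conj.2 hs, ?_⟩
    calc _ = g * (s * (g⁻¹ * u * g) * s⁻¹) * g⁻¹ := by group
      _ = _ := by rw [e]; group
  · rw [mem_cj] at hu hv
    have := h.noQ _ hu _ hv (by
      calc _ = g⁻¹ * (u * u) * g := by group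
        _ = _ := by rw [e1]; group) (by
      calc _ = g⁻¹ * (u * v * (u * v)) * g := by group
        _ = _ := by rw [e2]; group)
    calc _ = g * (g⁻¹ * u * g * (g⁻¹ * u * g)) * g⁻¹ := by group
      _ = _ := by rw [this]; group

theorem eq_of_le (h1 : BG.cj g A ≤ S) : BG.cj g A = A :=
  eq_of_card_le (fun x hx => h.inv x (h1 hx) (kf_sq (h.cj g).kf hx)) (card_cj _ _).ge

theorem cj' (hg : g ∈ N[A]) : UT (BG.cj g S) A := by
  have := h.cj g; rwa [cj_of_mem_N hg] at this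

/-- every 2-subgroup containing `A` lies in a Sylow subgroup with centre `A` -/
theorem exists_sup (hP : PiG {2} P) (h1 : A ≤ P) : ∃ S', UT S' A ∧ P ≤ S' := by
  obtain ⟨g, -, e⟩ := h.syl.cj_sub p2 le_top hP
  have := h.eq_of_le ((map_mono h1).trans e)
  exact ⟨_, h.cj' (inv_mem (mem_N_iff_cj.2 this)), cj_le_iff.1 e⟩

theorem inv' (hP : PiG {2} P) (h1 : A ≤ P) (hx : x ∈ P) (h2 : x * x = 1) : x ∈ A := by
  obtain ⟨S', h', e⟩ := h.exists_sup hP h1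
  exact h'.inv x (e hx) h2

theorem inv_N (hx : x ∈ N[A]) (h2 : x * x = 1) : x ∈ A :=
  h.inv' (h.pigA.sup_l (pig_zpowers.2 (pie_of_pow p2 (by rwa [pow_two]))) (zpowers_le.2 hx))
    le_sup_left (mem_sup_right (mem_zpowers x)) h2

theorem two_cent (hP : PiG {2} P) (h1 : P ≤ N[A]) : P ≤ C[A] := by
  obtain ⟨S', h', e⟩ := h.exists_sup (h.pigA.sup_l hP h1) le_sup_left
  exact le_sup_right.trans (e.trans h'.cen)

theorem cent_of_fix (hn : n ∈ N[A]) (hx : x ∈ A) (x1 : x ≠ 1) (e : n ∈ C1[x]) : n ∈ C[A] := by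
  obtain ⟨c, hc, d, hd, rfl, h1, h2⟩ := exists_pi_part {2} n
  exact mul_mem (h.two_cent (pig_zpowers.2 h1) (zpowers_le.2 (zpowers_le.2 hn hc)) (mem_zpowers c))
    (Inv.mem_centralizer_of_sq_of_odd (odd_iff.1 h2) (kf_sq_mem_centralizer h.kf hx x1
      (zpowers_le.2 hn hd) (mul_inv_eq_iff_eq_mul.2 (mem_C1.1 (zpowers_le.2 e hd)))))

theorem exists_cj (hx : x * x = 1) (hM : S ≤ M) (h1 : x ∈ M) : ∃ g ∈ M, g * x * g⁻¹ ∈ A := by
  obtain ⟨g, hg, e⟩ := (h.sylM hM).cj_sub p2 (zpowers_le.2 h1)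
    (pig_zpowers.2 (pie_of_pow p2 (by rwa [pow_two])))
  exact ⟨g, hg, h.inv _ (e (mem_cj_conj.2 (mem_zpowers x))) (by
    rw [show g * x * g⁻¹ * (g * x * g⁻¹) = g * (x * x) * g⁻¹ by group, hx]; simp)⟩

/-- an involution commutes with every element of a 2-subgroup containing it -/
theorem central (hP : PiG {2} P) (hx : x ∈ P) (h2 : x * x = 1) (hy : y ∈ P) : y * x = x * y := by
  obtain ⟨g, -, e⟩ := h.syl.sub_cj p2 le_top hP
  exact (h.cj g).comm (e hy) ((h.cj g).inv x (e hx) h2)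

theorem fus (hM : S ≤ M) (hx : x ∈ A) (hg : g ∈ M) (hy : g * x * g⁻¹ ∈ A) :
    ∃ n ∈ M ⊓ N[S], n * x * n⁻¹ = g * x * g⁻¹ :=
  fus_Z p2 (h.sylM hM) (cent_symm h.cen hx) hg (cent_symm h.cen hy)

theorem se (hM : M ≠ ⊤) (h1 : N[S] ≤ M) (h2 : ∀ x ∈ A, x ≠ 1 → C1[x] ≤ M) :
    IsStronglyEmbedded M :=
  se_Z h.syl h.neS (fun x hx e => cent_symm h.cen (h.inv x hx e)) hM h1
    fun x hx e => h2 x (h.inv x hx (sq_of_ord2 e)) (ne_one_of_ord2 e)

theorem zst (h1 : A ≤ X) (h2 : X ⊓ N[A] ≤ C[A]) : IsProd (X ⊓ C[A]) O'[X] X := by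
  obtain ⟨T, hT, le⟩ := syl_superset p2 h1 h.pigA
  obtain ⟨S', h', e⟩ := h.exists_sup hT.pi le
  refine cop_prod_of_comm_le (h1.trans (O_norm _ _)) (h.copA (O_pig _ _)) (Or.inl h.pigA.sol)
    (O_le _ _) (comm_le_iff.2 fun g hg x hx => ?_)
  by_cases x1 : x = 1
  · simp [x1]
  refine H8.zstar_rel (h.ord hx x1) (h1 hx) hT (fun g hg hy => ?_) (comm_mem hg (mem_zpowers x))
  have hy' := h'.inv _ (e hy) (sq_of_ord2 ((orderOf_conj' g x).trans (h.ord hx x1)))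
  have c : A ≤ C[T] := cent_symm (e.trans h'.cen)
  obtain ⟨n, hn, e2⟩ := fus_Z p2 hT (c hx) hg (c hy')
  rw [← e2, ← mem_C.1 (h2 (mem_inf.2 ⟨hn.1, mem_N_of fun z hz => h'.inv _ (e (conj_mem hn.2 (le hz)))
    (by rw [show n * z * n⁻¹ * (n * z * n⁻¹) = n * (z * z) * n⁻¹ by group, h.sqA hz]; simp)⟩)) x hx,
    mul_inv_cancel_right]

theorem zstC (hx : x ∈ A) (x1 : x ≠ 1) : IsProd C[A] O'[C1[x]] C1[x] := by
  have := h.zst (h.le.trans (h.SC hx)) fun n hn => h.cent_of_fix hn.2 hx x1 hn.1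
  rwa [inf_eq_right.2 (C_le_C1 hx)] at this

theorem normal_cases (h1 : T ≤ S) (h2 : S ≤ N[T]) : T ≤ A ∨ A ≤ T := by
  refine or_iff_not_imp_left.2 fun e z hz => ?_
  obtain ⟨u, hu, hn⟩ := SetLike.not_le_iff_exists.1 e
  obtain ⟨s, hs, e⟩ := h.cls u (h1 hu) hn z hz
  exact (mul_mem_cancel_left hu).1 (e ▸ conj_mem (h2 hs) hu)

theorem im (hd : S ≤ φ.dom) (ho : PiG {2}ᶜ φ.ker) (ht : φ.im φ.dom = ⊤) :
    UT (φ.im S) (φ.im A) := by
  have inj : ∀ x ∈ S, ∀ y ∈ S, φ.app x = φ.app y → x = y := fun x hx y hy e =>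
    inv_mul_eq_one.1 ((h.pig.elt (mul_mem (inv_mem hx) hy)).eq_one
      (ho.elt ((app_eq_iff (hd hx) (hd hy)).1 e)))
  have hA := h.le.trans hd
  have i0 : S ⊓ φ.ker = ⊥ := h.pig.inf_bot ho
  refine ⟨kf_of_card ((card_im_inj hA (h.pigA.inf_bot ho)).trans h.cardA) fun x hx => ?_,
    im_mono h.le, im_cent h.cen, fun x hx => ?_, fun x hx e => ?_, fun u hu hn z hz => ?_,
    fun u hu v hv e1 e2 => ?_, (card_im_inj hd i0).trans h.card,
    ht ▸ (h.sylM hd).im le_rfl⟩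
  · replace hx := (mem_im' hA).1 hx
    obtain ⟨x, hx, rfl⟩ := hx
    rw [← app_mul (hA hx) (hA hx), h.sqA hx, app_one]
  · replace hx := (mem_im' hd).1 hx
    obtain ⟨x, hx, rfl⟩ := hx
    rw [← app_mul (hd hx) (hd hx)]
    exact app_mem_im (h.sq x hx) (hA (h.sq x hx))
  · replace hx := (mem_im' hd).1 hx
    obtain ⟨x, hx, rfl⟩ := hx
    rw [← app_mul (hd hx) (hd hx), ← app_one (φ := φ)] at e
    exact app_mem_im (h.inv x hx (inj _ (mul_mem hx hx) _ (one_mem _) e)) (hd hx)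
  · rw [mem_im' hd] at hu
    rw [mem_im' hA] at hz
    obtain ⟨u, hu, rfl⟩ := hu
    obtain ⟨z, hz, rfl⟩ := hz
    obtain ⟨s, hs, e⟩ := h.cls u hu (fun e => hn (app_mem_im e (hd hu))) z hz
    exact ⟨_, app_mem_im hs (hd hs), by rw [← app_conj (hd hs) (hd hu), e, app_mul (hd hu) (hA hz)]⟩
  · rw [mem_im' hd] at hu hv
    obtain ⟨u, hu, rfl⟩ := hu
    obtain ⟨v, hv, rfl⟩ := hv
    have uv := mul_mem hu hv
    rw [← app_mul (hd hu) (hd hv), ← app_mul (hd uv) (hd uv)] at e2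
    rw [← app_mul (hd hu) (hd hu)] at e1 e2 ⊢
    rw [← app_mul (hd hv) (hd hv)] at e1
    rw [h.noQ u hu v hv (inj _ (mul_mem hu hu) _ (mul_mem hv hv) e1)
      (inj _ (mul_mem uv uv) _ (mul_mem hu hu) e2), app_one]

end UT

end Cfsg.Agent.Gs
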