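import Cfsg.Agent.Gs.End

/-! No minimal counterexample. -/

set_option autoImplicit false
set_option linter.unusedVariables false
set_option linter.unusedSectionVars false

namespace Cfsg.Agent.Gs

open Cfsg Cfsg.Agent.BG Cfsg.Agent.Dih Cfsg.Agent.GW Subgroup PHom
open Cfsg.Agent.Comp (Lay FStar SubIn Lay_le Lay_normal Lay_perfect)
open Cfsg.Agent.H8 (N_coatom')
open Cfsg.Agent.Inv (ord2_iff sq_of_ord2 ne_one_of_ord2 inv_of_ord2 orderOf_conj' orderOf_conj''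
  kf_sq kf_ord kf_comm kf_cases kf_exists_ne kf_of_card kf_mem_centralizer kf_sq_mem_centralizer)
open scoped commutatorElement

universe u

variable {G : Type u} [Group G] [Finite G]
  {A B E H K L M P Q R S T W X Z : Subgroup G} {a b g n s t u v x y z : G} {p q : ℕ}


theorem LC.three (h : LC S A a b g) : ∃ r ∈ N[S], PiE {3} r ∧ r ∉ C[A] := by
  refine ⟨cst {3} g, cst_mem_of h.gN, cst_pie _ _, fun hc => ?_⟩
  obtain ⟨c, ⟨k, rfl⟩, e, pc⟩ := cst_spec {3} g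
  have g3 : g ^ 3 ∈ C[A] := h.cent_of_fix (pow_mem h.gA 3) h.aA h.a1 (mem_C1.2 (by
    rw [← mul_inv_eq_iff_eq_mul]
    nth_rw 2 [← h.g3]
    rw [← h.g2, ← h.g1, pow_three]; group))
  have := PLoc.mem_of_pow_mem_of_coprime (H := C[A]) (x := g ^ k) (n := 3)
    (by rw [← zpow_natCast, ← zpow_mul, mul_comm, zpow_mul, zpow_natCast]; exact zpow_mem g3 k)
    ((pin_compl_cop Nat.prime_three).1 pc)
  have hg : g ∈ C[A] := e ▸ mul_mem hc this
  exact h.ab (by rw [← h.g1, ← mem_C.1 hg a h.aA, mul_inv_cancel_right])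

theorem eq81 (h : #K = 81) (hW : W ≤ K) (h1 : W ≠ ⊥) (h2 : 5 ∣ #W - 1) : W = K := by
  obtain ⟨k, hk, e⟩ := (Nat.dvd_prime_pow Nat.prime_three).1 (show #W ∣ 3 ^ 4 from (cardS hW).trans h.dvd)
  have := one_lt_card h1
  refine eq_of_card_le hW ?_
  rw [e] at this h2 ⊢
  interval_cases k <;> omega

namespace MC

variable (h : MC S A a b g)
include h

theorem K81 : #(KK a b) = 81 := h.K_cases.resolve_right fun e => by
  have := h.bound (c := 3.873) (d := 319) h.idx_le (by norm_num) (by norm_num) (by norm_num)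
  have e' : (625 : ℝ) ≤ #(KK a b) := by exact_mod_cast e
  linarith

theorem j5 : (S ⊔ C[S]).relIndex (N[S] ⊓ C[A]) = 5 := by
  obtain ⟨k, e⟩ := (pin_single (by norm_num) (relIndex_pos _ _).ne').1 h.idx5
  have l := h.idx_le
  rcases k with _ | _ | k
  · have := h.bound (c := 1.5) (d := 63) (j := 1) e.le (by norm_num) (by norm_num) (by norm_num)
    rw [h.K81] at this
    norm_num at this
  · exact e
  · rw [e, pow_succ, pow_succ] at l
    have := Nat.one_le_pow k 5 (by norm_num)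
    omega

theorem K3 : PiG {3} (KK a b) := pig_of_card_pow (n := 4) Nat.prime_three h.K81

theorem Q_cent (hQ : PiG {3} Q) (h1 : Q ≤ C[A]) (h2 : S ≤ N[Q]) : KK a b ≤ C[Q] := by
  have e := h.dvd16 (W := KK a b ⊓ C[Q]) inf_le_left (normI ((h.SC h.aA).trans h.K_norm) (normC h2))
  have e1 := one_lt_card (h.K3.meet_C hQ (h1.trans h.K_normC) h.K_ne)
  obtain ⟨k, hk, e2⟩ := (Nat.dvd_prime_pow Nat.prime_three).1
    (show #(KK a b ⊓ C[Q]) ∣ 3 ^ 4 from (cardS inf_le_left).trans h.K81.dvd)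
  refine inf_eq_left.1 (eq_of_card_le inf_le_left ?_)
  rw [h.K81]
  rw [e2] at e e1 ⊢
  interval_cases k <;> omega

theorem no3 : PiG {3}ᶜ C[A] := by
  have n : S ≤ N[O'[C[A]]] := h.cen.trans (O_norm _ _)
  have pS : PiG {3}ᶜ S := PiN.ne_compl h.pig (by norm_num)
  have : PiG {3}ᶜ O'[C[A]] := by
    obtain ⟨Q, hQ, nQ⟩ := cop_syl_exists n (h.cop (O_pig _ _)) (Or.inl h.pig.sol) Nat.prime_three
    refine hQ.eq_bot_iff.1 (by_contra fun e => h.rot.K_ne ?_)
    have QA := hQ.le.trans (O_le _ _)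
    have nX : C[A] ≤ N[O'[C[A]] ⊓ C[KK a b] ⊓ C[KK b (a * b)]] :=
      normI (normI (O_norm _ _) (normC h.K_normC)) (normC h.rot.K_normC)
    have := h.N_eq ((inf_le_left.trans inf_le_left).trans ((O_le _ _).trans (C_le_C1 h.aA)))
      (h.K_prod.sup.ge.trans (sup_le (cents_norm (cent_symm (inf_le_left.trans inf_le_right))) nX))
      fun e' => e (eq_bot_iff.2 (e' ▸ le_inf (le_inf hQ.le (cent_symm (h.Q_cent hQ.pi QA nQ)))
        (cent_symm (h.rot.Q_cent hQ.pi QA nQ))))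
    rw [← (h.rot.iv_of_inv h.oa (mem_C1.2 h.ba.symm) h.ab).inf_bot h.rot.K_odd, left_eq_inf, ← this]
    exact cents_norm (cent_symm inf_le_right)
  refine (this.sup_l pS n).ext ?_
  rw [h.frat.relIndex]
  exact (PiN.ne_compl h.idx5 (by norm_num)).of_dvd (relIndex_dvd_left (sup_le le_sup_right h.CS_le) _)

theorem sylK : Syl 3 (KK a b) ⊤ :=
  Syl.of_norm (by rw [top_inf_eq, h.N_K]; exact h.K_prod.hall h.K3 h.no3) Nat.prime_three

theorem five (pr : PiE {3} y) (hy : y ∈ N[S]) :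
    ∃ x ∈ N[S] ⊓ C[A], x ∈ C1[y] ∧ PiE {5} x ∧ x ∉ C[S] := by
  by_contra! c
  have nL : N[S] ≤ N[S ⊔ C[S]] := normY le_rfl (normC le_rfl)
  have le : N[S] ⊓ C[A] ⊓ C[zpowers y] ≤ S ⊔ C[S] := le_of_pie fun p hp x hx px => by
    by_cases e : p = 5
    · exact mem_sup_right (c x hx.1 (C_zpowers y ▸ hx.2) (e ▸ px))
    · exact mem_of_cop_relIndex (inf_le_left.trans nL) hx.1 ((PiN.ne_compl px e).coprime' h.idx5)
  have e1 := (pig_zpowers.2 pr).card_modEq Nat.prime_three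
    (zpowers_le.2 ((normI (normG _) (normC h.NS)) hy) : _ ≤ N[N[S] ⊓ C[A]])
  have e2 := (pig_zpowers.2 pr).card_modEq Nat.prime_three (zpowers_le.2 (nL hy))
  rw [show (S ⊔ C[S]) ⊓ C[zpowers y] = N[S] ⊓ C[A] ⊓ C[zpowers y] from
    le_antisymm (inf_le_inf_right _ h.L_le) (le_inf le inf_le_right)] at e2
  have e3 := (pin_compl Nat.prime_three).1 (h.no3.of_le (h.L_le.trans inf_le_right))
  rw [← card_mul_relIndex h.L_le, h.j5] at e1
  have := e1.trans e2.symm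
  unfold Nat.ModEq at this
  omega

theorem false : False := by
  obtain ⟨y, hy, pr, nc⟩ := h.three
  obtain ⟨x, hx, xy, px, xc⟩ := h.five pr hy
  obtain ⟨k, -, hk⟩ := Syl.cj_sub h.sylK Nat.prime_three le_top (pig_zpowers.2 pr)
  rw [cj_zpowers, zpowers_le] at hk
  have y1 : k * y * k⁻¹ ≠ 1 := fun e => nc (by rw [conj_eq_one_iff.1 e]; exact one_mem _)
  have m : k * x * k⁻¹ ∈ C1[k * y * k⁻¹] := cj_C1 k y ▸ mem_cj_conj.2 xy
  have xa := h.C_y hk y1 m
  have pz := pig_zpowers.2 (pie_conj.2 px : PiE {5} (k * x * k⁻¹))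
  have e1 : KK a b ≤ C1[k * x * k⁻¹] := by
    have := pz.card_modEq (by norm_num) (zpowers_le.2 (h.K_norm xa))
    rw [C_zpowers, h.K81] at this
    exact inf_eq_left.1 (eq81 h.K81 inf_le_left (ne_bot_of_mem (mem_inf.2 ⟨hk, C1_symm m⟩) y1)
      (by unfold Nat.ModEq at this; omega))
  obtain ⟨P, hP, AP⟩ := syl_superset p2 (le_C1_iff.2 hx.2) h.pigA
  have o : orderOf (k⁻¹ * a * k) = 2 := by rw [orderOf_conj'', h.oa]
  obtain ⟨c, hc, e2⟩ := Syl.cj_sub hP p2 (zpowers_le.2 (show k⁻¹ * a * k ∈ C1[x] from by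
    rw [← mem_cj, cj_C1]; exact C1_symm xa)) (pig2 o)
  rw [cj_zpowers, zpowers_le] at e2
  have o2 := (orderOf_conj' c _).trans o
  obtain ⟨n, hn, e3⟩ := h.exists_conj (h.inv' hP.pi AP e2 (sq_of_ord2 o2)) (ne_one_of_ord2 o2)
  have e4 : n⁻¹ * c * k⁻¹ ∈ C1[a] := mem_C1.2 (by
    rw [← mul_inv_eq_iff_eq_mul, show n⁻¹ * c * k⁻¹ * a * (n⁻¹ * c * k⁻¹)⁻¹ =
      n⁻¹ * (c * (k⁻¹ * a * k) * c⁻¹) * n by group, ← e3]; group)
  have e5 : n⁻¹ * x * n ∈ C[KK a b] := by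
    have := conj_mem (normC h.K_norm e4) (le_C1_iff.1 e1)
    rwa [show n⁻¹ * c * k⁻¹ * (k * x * k⁻¹) * (n⁻¹ * c * k⁻¹)⁻¹ = n⁻¹ * (c * x * c⁻¹) * n by group,
      mem_C1.1 hc, mul_inv_cancel_right] at this
  have nK := normC ((h.SC h.aA).trans h.K_norm)
  have e6 : S ⊓ C[KK a b] ≤ A := (h.normal_cases inf_le_left (normI (normG _) nK)).resolve_right
    fun le => h.K_ne (by rw [← h.K_iv.inf_bot h.K_odd, left_eq_inf]; exact le_C1_iff.2 (le h.bA).2)
  have hx' := conj_mem' (normI (normG _) (normC h.NS) hn) hx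
  have := cop_stable (K := S) (A := zpowers (n⁻¹ * x * n)) (L := A)
    (((pig_zpowers.2 (by simpa using (pie_conj (g := n⁻¹)).2 px)).ne_compl (by norm_num)).coprime' h.pigA)
    ((le_inf (commL (zpowers_le.2 hx'.1)) ((commS le_rfl (zpowers_le.2 e5)).trans (commR nK))).trans e6)
    (cent_symm (zpowers_le.2 hx'.2))
  have := conj_mem (normC le_rfl hn) (zpowers_le.1 (cent_symm this))
  exact xc (by simpa [mul_assoc] using this)

end MC

theorem T0 (n : ℕ) : ∀ (G : Type u) [Group G] [Finite G], Nat.card G = n → ∀ S A : Subgroup G, UT S A →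
    O'[(⊤ : Subgroup G)] = ⊥ → ∀ x ∈ A, x ≠ 1 → C1[x] ≤ C[A] := by
  induction n using Nat.strong_induction_on with
  | _ n ih =>
  intro G _ _ e S A h hO x hx x1
  by_contra nc
  have ih' : IHU G := fun Y _ _ hY => ih _ (e ▸ hY) Y rfl
  obtain ⟨m, hm, hc⟩ : ∃ m ∈ N[A], m ∉ C[A] := by
    by_contra! c
    have := (h.zst le_top fun m hm => c m hm.2).sup
    rw [hO, sup_bot_eq] at this
    exact nc (le_top.trans (this.ge.trans inf_le_right))
  obtain ⟨b, g, l⟩ := h.exists_LC hx x1 hm hc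
  exact MC.false ⟨l, l.simple ih' hO nc, ih', nc⟩

end Cfsg.Agent.Gs
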