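import Cfsg.Agent.Gs.Red
import Cfsg.Agent.BG.AppB

/-! The Bender method: `C(a)` is a maximal subgroup. -/

set_option autoImplicit false
set_option linter.unusedVariables false
set_option linter.unusedSectionVars false

namespace Cfsg.Agent.Gs

open Cfsg Cfsg.Agent.BG Cfsg.Agent.Dih Cfsg.Agent.GW Subgroup PHom
open Cfsg.Agent.Comp (Lay FStar SubIn Lay_le Lay_normal Lay_perfect)
open Cfsg.Agent.H8 (N_coatom')
open Cfsg.Agent.Inv (ord2_iff sq_of_ord2 ne_one_of_ord2 inv_of_ord2 orderOf_conj' orderOf_conj''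
  kf_sq kf_ord kf_comm kf_cases kf_exists_ne kf_of_card kf_mem_centralizer kf_sq_mem_centralizer)
open scoped commutatorElement

universe u

variable {G : Type u} [Group G] [Finite G]
  {A B E H K L M P Q R S T W X Z : Subgroup G} {a b g n s t u v x y z : G} {p q : ℕ}

theorem D_bot [IsSimpleGroup G] (ht : orderOf t = 2) (hA : C1[t] ≤ A) (hO : O[{2}](A) = ⊥)
    (hF : O'[F[A]] ≠ ⊥) (hs : orderOf s = 2) (st : s * t = t * s) (g1 : g * t * g⁻¹ = s)
    (g2 : g * s * g⁻¹ = t * s) (r : Arr A M) (r' : Arr (BG.cj g A) M) (tM : t ∈ M) (sM : s ∈ M)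
    (oD : PiG {2}ᶜ O[{p | p ∣ #F[A]}ᶜ](F[M])) : O[{p | p ∣ #F[A]}ᶜ](F[M]) = ⊥ := by
  have d1 := r.D_inf
  have d2 := r'.D_inf
  rw [← cj_F, card_cj] at d2
  have pD := O_pig {p | p ∣ #F[A]}ᶜ F[M]
  have nD : M ≤ N[O[{p | p ∣ #F[A]}ᶜ](F[M])] := normO _ (F_norm M)
  generalize O[{p | p ∣ #F[A]}ᶜ](F[M]) = D at *
  have g3 : g * g * t * (g * g)⁻¹ = t * s := by rw [← g2, ← g1]; group
  have As : C1[s] ≤ BG.cj g A := by rw [← g1, ← cj_C1]; exact map_mono hA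
  have Ats : C1[t * s] ≤ BG.cj (g * g) A := by rw [← g3, ← cj_C1]; exact map_mono hA
  have i1 := iv_of_fpf ht oD (nD tM) (eq_bot_iff.2 (d1 ▸ inf_le_inf_left _ hA))
  have i2 := iv_of_fpf hs oD (nD sM) (eq_bot_iff.2 (d2 ▸ inf_le_inf_left _ As))
  have c : D ≤ C1[t * s] := le_C1_iff.2 (by simpa [inv_of_ord2 hs] using i1.mul_cent i2)
  set Z := Z[O'[F[A]]]
  have ZF : Z ≤ Z[F[A]] := le_inf (inf_le_left.trans (O_le _ _)) (by
    rw [← ((F_nil A).dprod_O {2}).sup]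
    exact centY (inf_le_left.trans (O_cent_O' _ _)) inf_le_right)
  have ZM := ZF.trans r.Z_le
  have nZ : A ≤ N[Z] := normZ (normO _ (F_norm A))
  have oZ : PiG {2}ᶜ Z := (O_pig _ _).of_le inf_le_left
  have pZ : PiG {p | p ∣ #F[A]} Z := (pin_self _).of_dvd (cardS (ZF.trans inf_le_left))
  have sH : s ∈ C1[t] := mem_C1.2 st
  have e : D ≤ ⁅D, Z ⊓ C1[t] ⊓ C1[s]⁆ := by
    have := (cop_abel_dprod i1.abel (A := Z ⊓ C1[t] ⊓ C1[s])
      ((inf_le_left.trans inf_le_left).trans (ZM.trans nD))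
      ((pZ.of_le (inf_le_left.trans inf_le_left)).coprime pD)).sup
    suffices e : D ⊓ C[Z ⊓ C1[t] ⊓ C1[s]] ≤ A by
      rw [eq_bot_iff.2 ((le_inf inf_le_left e).trans d1.le), bot_sup_eq] at this
      exact this.ge
    rw [← N_coatom' r.max (ZF.trans (inf_le_left.trans (F_le A))) nZ
      (((F_nil A).of_le (O_le _ _)).Z_ne_bot hF)]
    refine cents_norm (cent_symm ?_)
    exact (prod2 ht oZ (nZ (hA (mem_C1_self t)))).sup.ge.trans (sup_le
      ((i1.comm_cent ht (ZM.trans nD)).trans (centS inf_le_left))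
      ((prod2 hs (oZ.of_le inf_le_left) (zpowers_le.1 (normI (zpowers_le.2 (nZ (hA sH)))
        (normsG (zpowers_le.2 sH))))).sup.ge.trans (sup_le
      ((i2.comm_cent hs (inf_le_left.trans (ZM.trans nD))).trans (centS inf_le_left))
      (cent_symm inf_le_right))))
  set K := O'[F[BG.cj (g * g) A]]
  have nK : C1[t * s] ≤ N[K] := Ats.trans (normO _ (F_norm _))
  have pF : PiG {p | p ∣ #F[A]} F[BG.cj (g * g) A] := by rw [← cj_F, pig_cj]; exact pin_self _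
  have pK : PiG {p | p ∣ #F[A]} K := pF.of_le (O_le _ _)
  have zK : Z ⊓ C1[t] ⊓ C1[s] ≤ N[K] := le_trans (fun z hz => mem_C1'.2 (by
    rw [mul_assoc, ← mem_C1.1 hz.2, ← mul_assoc, ← mem_C1.1 hz.1.2, mul_assoc])) nK
  have := lemWop ht ((F_nil _).of_le (O_le _ _)) (O_pig _ _) (c.trans nK)
    (nK (mem_C1.2 (by rw [mul_assoc, st]))) i1 oD (pD.coprime' pK) zK
    ((inf_le_left.trans inf_le_left).trans (ZM.trans nD)) (oZ.of_le (inf_le_left.trans inf_le_left))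
    e (cent_of_inf ((commS inf_le_left le_rfl).trans (commL zK)) (c.trans nK)
      (((commS (inf_le_right.trans hA) (inf_le_left.trans inf_le_left)).trans (commR nZ)).trans
        (ZM.trans nD)) (pK.inf_bot pD))
  refine (pF.of_le ((le_inf (c.trans Ats) ?_).trans (C_F_le' (by
    rw [← cj_Lay, r.lay, cj_bot])))).eq_bot pD
  rw [← ((F_nil _).dprod_O {2}).sup, O_F]
  refine centY ?_ this
  rw [← cj_O, hO, cj_bot, C_bot]
  exact le_top

theorem arr_eq [IsSimpleGroup G] (nab : ¬ IsMulCommutative G)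
    (r : Arr A B) (hB : IsCoatom B) (hL : Lay B = ⊥) (hD : O[{p | p ∣ #F[A]}ᶜ](F[B]) = ⊥)
    (c : ∀ p, p.Prime → O[{p}ᶜ](F[A]) ≠ ⊥) : A = B := by
  have hπ : PiG {p | p ∣ #F[A]} F[B] := by
    have := ((F_nil B).dprod_O {p | p ∣ #F[A]}).sup
    rw [hD, sup_bot_eq] at this
    exact this ▸ O_pig _ _
  have pig : ∀ {p} {A : Subgroup G}, O[{p}ᶜ](F[A]) = ⊥ → PiG {p} F[A] := fun {p A} e => by
    have := ((F_nil A).dprod_O {p}).sup
    rw [e, sup_bot_eq] at this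
    exact this ▸ O_pig _ _
  have BA : F[B] ≤ A := (F_nil B).le_of_O fun p hp hd => by
    rw [O_F, ← N_coatom' r.max ((O_le _ _).trans (F_le A)) (normO _ (F_norm A)) (c p hp)]
    exact cents_norm (r.two hp (hπ p hp hd))
  have r' : Arr B A := ⟨hB, hL, _, le_rfl, inf_le_left, BA⟩
  have hπ' : ∀ p, p.Prime → p ∣ #F[A] → p ∣ #F[B] := fun p hp hd => by_contra fun hn =>
    (F_nil A).meet_C (O_le {p} _) (O_norm _ _) ((F_nil A).O_ne_bot hp hd rfl) (eq_bot_iff.2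
      (r'.one hp hn ▸ le_inf (inf_le_left.trans_eq (O_F p A))
        ((inf_le_inf_right _ (O_le _ _)).trans r.Z_le)))
  have AB : F[A] ≤ B := (F_nil A).le_of_O fun p hp hd => by
    rw [O_F, ← N_coatom' hB ((O_le {p}ᶜ _).trans (F_le B)) (normO _ (F_norm B)) fun e => by
      obtain ⟨q, hq, hd⟩ := exists_prime_dvd (c p hp)
      exact O_pig _ _ q hq hd ((pig e).eq_prime hq (hπ' q hq (hd.trans (cardS (O_le _ _)))))]
    exact cents_norm (r'.two hp (hπ' p hp hd))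
  by_contra hne
  obtain ⟨p, hp, e, -⟩ := S1312.result nab A B r.max hB hne
    (by rwa [Comp.FStar_eq, FStar_eq_F r.lay]) (by rwa [Comp.FStar_eq, FStar_eq_F hL])
  have := (pig_of_pg hp e).map A.subtype
  rw [Comp.FStar_eq, FStar_eq_F r.lay] at this
  exact c p hp (O_eq_bot this.compl_compl)

theorem pd_odd (ht : orderOf t = 2) (hX : PiG {2}ᶜ X) (tX : t ∈ N[X]) (hP : P ≤ X)
    (pP : PiG {p} P) (tP : t ∈ N[P]) (h : X ⊓ C1[t] ≤ N[P]) : ⁅P, zpowers t⁆ ≤ O[{p}](X) := by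
  have n : t ∈ N[P ⊔ X ⊓ C1[t]] := zpowers_le.1 (normY (zpowers_le.2 tP)
    (normI (zpowers_le.2 tX) (normsG (zpowers_le.2 (mem_C1_self t)))))
  have le : P ⊔ X ⊓ C1[t] ≤ X := sup_le hP inf_le_left
  have := SE.O_tc_le ht (odd_iff.1 hX) tX le n le_sup_right {p}
  rwa [SE.tc_eq_comm ht (odd_iff.1 (hX.of_le le)) n, comm_sup_cent (C_zpowers t ▸ inf_le_right) h,
    O_eq_self (pP.of_le (commL (zpowers_le.2 tP)))] at this

theorem lay_of_sol (h : Sol (Lay M)) : Lay M = ⊥ := by_contra fun e => lay_ns e h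

/-- maximal `S`-invariant `p`-subgroup -/
structure MX (p : ℕ) (S X : Subgroup G) : Prop where
  pi : PiG {p} X
  n : S ≤ N[X]
  max : ∀ Y, PiG {p} Y → S ≤ N[Y] → X ≤ Y → Y = X

theorem MX.cj (h : MX p S X) (hg : g ∈ N[S]) : MX p S (BG.cj g X) :=
  ⟨h.pi.cj g, by rw [← cj_of_mem_N hg]; exact norm_cj.2 h.n, fun Y h1 h2 h3 => by
    rw [← h.max (BG.cj g⁻¹ Y) (h1.cj _) (by rw [← cj_of_mem_N (inv_mem hg)]; exact norm_cj.2 h2)
      (cj_le_iff.1 h3), ← cj_mul, mul_inv_cancel, cj_one]⟩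

theorem exists_MX (h1 : PiG {p} X) (h2 : S ≤ N[X]) : ∃ Y, X ≤ Y ∧ MX p S Y := by
  obtain ⟨Y, le, ⟨e1, e2⟩, mx⟩ := exists_maximal (P := fun Y => PiG {p} Y ∧ S ≤ N[Y]) ⟨h1, h2⟩
  exact ⟨Y, le, e1, e2, fun D d1 d2 => mx D ⟨d1, d2⟩⟩

namespace MC

variable (h : MC S A a b g)
include h

theorem trans (hp : p.Prime) (p2 : p ≠ 2) (D : Subgroup G) : D ≠ ⊥ → ∀ X Y, MX p S X → MX p S Y →
    D ≤ X ⊓ Y → ∃ n ∈ C[S], BG.cj n X = Y := by
  induction D using gt_wf_ind with | h D ih => ?_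
  intro D0 X Y hX hY le
  rcases le.eq_or_lt with rfl | lt
  swap
  · exact ih _ lt (ne_bot_of_gt lt) X Y hX hY le_rfl
  by_cases e : X = Y
  · exact ⟨1, one_mem _, by rw [cj_one, e]⟩
  have nD := normI hX.n hY.n
  have N0 := h.N_ne D0 ((hX.pi.of_le inf_le_left).ne_compl p2)
  have nO := nD.trans (O_norm {2}ᶜ _)
  have key : ∀ X', MX p S X' → X ⊓ Y < X' → ∃ P, Syl p P O'[N[X ⊓ Y]] ∧ S ≤ N[P] ∧
      X ⊓ Y < X' ⊓ P := fun X' hX' lt => by
    have n := normI hX'.n (normN nD)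
    have pi := hX'.pi.of_le (inf_le_left : X' ⊓ N[X ⊓ Y] ≤ _)
    obtain ⟨P, h1, h2, h3⟩ := cop_syl_superset nO (h.cop (O_pig _ _)) (Or.inl h.pig.sol) hp
      (h.th N0 nD inf_le_right (pi.ne_compl p2) n) pi n
    exact ⟨P, h1, h2, (hX'.pi.nil.lt_norm lt).trans_le (le_inf inf_le_left h3)⟩
  obtain ⟨P, p1, p3, p4⟩ := key X hX (lt_of_le_of_ne inf_le_left fun e' =>
    e (hX.max Y hY.pi hY.n (inf_eq_left.1 e')).symm)
  obtain ⟨Q, q1, q3, q4⟩ := key Y hY (lt_of_le_of_ne inf_le_right fun e' =>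
    e (hY.max X hX.pi hX.n (inf_eq_right.1 e')))
  obtain ⟨c, hc, rfl⟩ := cop_syl_conj nO (h.cop (O_pig _ _)) (Or.inl h.pig.sol) hp p1 q1 p3 q3
  obtain ⟨Z, z1, z2⟩ := exists_MX p1.pi p3
  obtain ⟨m, hm, rfl⟩ := ih _ p4 (ne_bot_of_gt p4) X Z hX z2 (inf_le_inf_left _ z1)
  obtain ⟨k, hk, e⟩ := ih _ q4 (ne_bot_of_gt q4) _ Y (z2.cj (C_le_N _ hc.2)) hY
    (le_inf (inf_le_right.trans (map_mono z1)) inf_le_left)
  exact ⟨k * (c * m), mul_mem hk (mul_mem hc.2 hm), by rw [cj_mul, cj_mul, e]⟩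

theorem exists_max (h1 : X ≠ ⊥) (h2 : PiG {2}ᶜ X) : ∃ M, IsCoatom M ∧ N[X] ≤ M :=
  (eq_top_or_exists_le_coatom _).resolve_left (h.N_ne h1 h2)

variable (hH : IsCoatom H) (h1 : C1[a] ≤ H)
include hH h1

theorem prodH : IsProd C[A] O'[H] H := by
  have := h.zst (h.le.trans ((h.SC h.aA).trans h1)) fun n hn => by
    have k : ∀ {b g}, MC S A a b g → n * a * n⁻¹ ≠ b := fun {b g} h e => h.noH hH.1 h1
      ((H.mul_mem_cancel_left (H.inv_mem hn.1)).1 (h1 (mem_C1.2 (by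
        rw [← mul_inv_eq_iff_eq_mul, show n⁻¹ * g * a * (n⁻¹ * g)⁻¹ = n⁻¹ * (g * a * g⁻¹) * n by group,
          h.g1, ← e]; group))))
    rcases h.memA (conj_mem hn.2 h.aA) with e | e | e | e
    · exact absurd (by simpa using e) h.a1
    · exact h.cent_of_fix hn.2 h.aA h.a1 (mem_C1.2 (mul_inv_eq_iff_eq_mul.1 e))
    · exact absurd e (k h)
    · exact absurd e (k h.symm)
  rwa [inf_eq_right.2 ((C_le_C1 h.aA).trans h1)] at this

theorem solH : Sol H := (h.prodH hH h1).sup ▸ h.solC.sup_r (sol_odd (O_pig _ _))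
  ((h.prodH hH h1).left.trans (O_norm _ _))

theorem layH : Lay H = ⊥ := lay_of_sol ((h.solH hH h1).of_le Lay_le)

theorem N_self : N[H] = H :=
  have := h.simple
  N_coatom' hH le_rfl (normG H) (ne_bot_of_mem (h1 (mem_C1_self a)) h.a1)

theorem pcase (hp : p.Prime) (p2 : p ≠ 2) (c : O[{p}ᶜ](F[H]) = ⊥)
    (h0 : O[{p}](H) ⊓ BG.cj g O[{p}](H) ≠ ⊥) : g ∈ H := by
  have := h.simple
  have SH := (h.SC h.aA).trans h1
  have oH := O_pig {2}ᶜ H
  have nO := SH.trans (O_norm {2}ᶜ H)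
  obtain ⟨X, hX, nX⟩ := cop_syl_exists nO (h.cop oH) (Or.inl h.pig.sol) hp
  have PX : O[{p}](H) ≤ X := hX.le_of_norm' (O_pig _ _) (O_le_O' p2 H)
    (hX.le.trans ((O_le _ _).trans (O_norm _ _)))
  have X0 : X ≠ ⊥ := ne_bot_of_le_ne_bot h0 (inf_le_left.trans PX)
  have O0 : O[{p}ᶜ](O'[H]) = ⊥ := by_contra fun e =>
    F_ne_bot (sol_odd (oH.of_le (O_le _ _))) e (eq_bot_iff.2 (c ▸ by
      rw [← F_O]
      exact F_le_of_normal (O_le_of_normal _ (O_le _ _) (O_norm _ _)) ((O_le _ _).trans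
        (normO _ (O_norm _ _)))))
  have e : N[Z[Puig X]] = H := N_coatom' hH ((inf_le_left.trans (Puig_le X)).trans
    (hX.le.trans (O_le _ _))) ((Syl.frattini hX hp (O_le _ _) (O_norm _ _)).sup.ge.trans (sup_le
      (ZPuig_normal hp (odd_iff.1 oH) (sol_odd oH) hX O0) (normZPuig inf_le_right)))
    (ZPuig_ne_bot hX.pi X0)
  have NX : N[X] ≤ H := e ▸ normZPuig le_rfl
  have mx : MX p S X := ⟨hX.pi, nX, fun Y y1 y2 y3 => (y1.nil.eq_of_norm y3 (hX.max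
    (y1.of_le inf_le_left) (h.th hH.1 SH (inf_le_right.trans NX) ((y1.of_le inf_le_left).ne_compl p2)
      (normI y2 (normN nX))) (le_inf y3 (normG X))).le).symm⟩
  obtain ⟨n, hn, e⟩ := h.trans hp p2 _ h0 _ _ mx (mx.cj h.gN) (inf_le_inf PX (map_mono PX))
  have : n⁻¹ * g ∈ H := NX (mem_N_iff_cj.2 (by rw [cj_mul, ← e, ← cj_mul, inv_mul_cancel, cj_one]))
  exact (mul_mem_cancel_left (inv_mem (h1 (C_le_C1 (h.le h.aA) hn)))).1 this

theorem t1 (h2 : O[{2}](H) = ⊥) (hp : p.Prime) (p2 : p ≠ 2) : O[{p}](H) ⊓ C1[b] ≤ C1[a] := by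
  have := h.simple
  by_contra hc
  refine h.noH hH.1 h1 ?_
  have hL := h.layH hH h1
  have hH' := coatom_cj hH g
  have h1' : C1[b] ≤ BG.cj g H := h.cjC ▸ map_mono h1
  have CH := (C_le_C1 h.aA).trans h1
  have CH' := (C_le_C1 h.bA).trans h1'
  have SH' := h.cen.trans CH'
  have pP := O_pig {p} H
  have oP : PiG {2}ᶜ O[{p}](H) := pP.ne_compl p2
  have nP := O_norm {p} H
  have n1 : S ≤ N[O[{p}](H) ⊓ C1[b]] := normI (h.cen.trans (CH.trans nP)) (normsG (h.SC h.bA))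
  have aX := SH'.trans (O_norm {2}ᶜ _) (h.le h.aA)
  have e1 := pd_odd h.oa (O_pig {2}ᶜ (BG.cj g H)) aX inf_le_right (pP.of_le inf_le_left)
    (zpowers_le.1 (normI (zpowers_le.2 (nP (h1 (mem_C1_self a)))) (zpowers_le.2 aX)))
    (normI (inf_le_right.trans (h1.trans nP)) (normsG inf_le_left))
  rw [O_O_of_subset (Set.singleton_subset_iff.2 p2)] at e1
  have D0 : O[{p}](H) ⊓ O[{p}](BG.cj g H) ≠ ⊥ := fun e => hc (comm_zp_bot.1 (eq_bot_iff.2 (e ▸ le_inf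
    ((commL (zpowers_le.2 (n1 (h.le h.aA)))).trans inf_le_left) ((commS (le_inf inf_le_left
      (h.th hH'.1 SH' (inf_le_right.trans h1') (oP.of_le inf_le_left) n1)) le_rfl).trans e1))))
  by_cases c : ∃ q, q.Prime ∧ O[{q}ᶜ](F[H]) = ⊥
  · obtain ⟨q, hq, c⟩ := c
    obtain rfl : p = q := by_contra fun e => D0 (eq_bot_iff.2 (inf_le_left.trans (c ▸ by
      rw [← O_F]; exact O_mono (Set.singleton_subset_iff.2 e) _)))
    exact h.pcase hH h1 hp p2 c (by rwa [cj_O])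
  push Not at c
  obtain ⟨M, hM, XM⟩ := h.exists_max D0 (oP.of_le inf_le_left)
  have SM : S ≤ M := (normI (h.cen.trans (CH.trans nP)) (SH'.trans (O_norm _ _))).trans XM
  have r : Arr H M := arr_of hH hL (inf_le_left.trans (O_le_F _ _)) (inf_le_right.trans XM)
  have r' : Arr (BG.cj g H) M := arr_of hH' (by rw [← cj_Lay, hL, cj_bot])
    (inf_le_right.trans (O_le_F _ _)) (inf_le_right.trans XM)
  have oF : PiG {2}ᶜ F[H] := (O_pig _ _).of_le (F_le_O (by rwa [compl_compl]))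
  have O0 : O[{2}](M) = ⊥ := by
    rw [← r.one Nat.prime_two ((pin_compl Nat.prime_two).1 oF), eq_comm, inf_eq_left]
    exact (h.sylM SM).O_le.trans (h.cen.trans CH)
  have F0 : F[H] ≠ ⊥ := ne_bot_of_le_ne_bot D0 (inf_le_left.trans (O_le_F _ _))
  have L0 : Lay M = ⊥ := lay_of_sol ((h.solH hH h1).of_le (by
    rw [← N_coatom' hH (inf_le_left.trans (F_le H)) (normZ (F_norm H)) ((F_nil H).Z_ne_bot F0)]
    exact cents_norm ((lay_cO M).trans (centS (h.th hM.1 SM r.Z_le (oF.of_le inf_le_left)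
      (normZ (normF (normsG (h.cen.trans CH)))))))))
  have D1 := D_bot h.oa h1 h2 (c 2 Nat.prime_two) h.ob h.ba h.g1 h.g2 r r' (SM (h.le h.aA))
    (SM (h.le h.bA)) ((O_pig {2}ᶜ M).of_le ((O_le _ _).trans (F_le_O (by rwa [compl_compl]))))
  have e := (arr_eq h.ncomm r hM L0 D1 c).trans (arr_eq h.ncomm r' hM L0 (by rwa [← cj_F, card_cj])
    fun q hq => by rw [← cj_F, ← cj_O, Ne, cj_eq_bot]; exact c q hq).symm
  exact h.N_self hH h1 ▸ mem_N_iff_cj.2 e.symm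

theorem eq_C : H = C1[a] := by
  have SH := (h.SC h.aA).trans h1
  have pr := h.prodH hH h1
  by_cases h2 : O[{2}](H) = ⊥
  · refine le_antisymm (pr.sup.ge.trans (sup_le (C_le_C1 h.aA) ?_)) h1
    rw [← C_zpowers]
    refine cent_symm (cop_cent_F (zpowers_le.2 (O_norm _ _ (h1 (mem_C1_self a))))
      (cop2 h.oa (O_pig _ _)) (sol_odd (O_pig _ _)) (cent_symm ?_))
    rw [C_zpowers]
    refine (F_le_of_normal (O_le _ _) (O_norm _ _)).trans (F_le_of_O fun p hp => ?_)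
    by_cases p2 : p = 2
    · rw [p2, h2]; exact bot_le
    refine cop_gen_cent1 h.abel h.ncyc (h.le.trans (SH.trans (O_norm _ _)))
      (h.copA ((O_pig _ _).ne_compl p2)) fun x hx x1 => ?_
    rcases h.memA hx with rfl | rfl | rfl | rfl
    exacts [absurd rfl x1, inf_le_right, h.t1 hH h1 h2 hp p2, h.symm.t1 hH h1 h2 hp p2]
  · obtain ⟨x, hx, x2⟩ := cauchy Nat.prime_two ((O_pig _ _).dvd h2)
    have xA := h.inv x ((h.sylM SH).O_le hx) (sq_of_ord2 x2)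
    obtain ⟨k, -, e⟩ := h.exists_conj xA (ne_one_of_ord2 x2)
    have : H ≤ BG.cj k C1[a] := by
      rw [cj_C1, e]
      exact pr.sup.ge.trans (sup_le (C_le_C1 xA) (le_C1_iff.2 (O_cent_O _ _ hx)))
    exact (eq_of_card_le h1 ((card_le this).trans_eq (card_cj _ _))).symm

omit hH h1

theorem max : IsCoatom C1[a] := by
  have := h.simple
  obtain ⟨H, hH, h1⟩ := (eq_top_or_exists_le_coatom C1[a]).resolve_left fun e => by
    rcases (normal_iff.2 (norm_zpowers e.ge)).eq_bot_or_eq_top with e' | e'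
    · exact h.a1 (zpowers_eq_bot.1 e')
    · exact h.ncyc ((cyc_zpowers a).of_le (e' ▸ le_top))
  exact h.eq_C hH h1 ▸ hH

end MC

end Cfsg.Agent.Gs
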