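import Cfsg.Agent.Gs.Loc
import Cfsg.Agent.S0942

/-! An estimate for the degrees in the principal 2-block. -/

set_option autoImplicit false
set_option linter.unusedVariables false
set_option linter.unusedSectionVars false

namespace Cfsg.Agent.Gs

open Cfsg Cfsg.Agent.BG Cfsg.Agent.GW Cfsg.Agent.Char Cfsg.Agent.Blk Subgroup
open scoped ComplexConjugate Classical

universe u

variable {G : Type u} [Group G] [Fintype G] {H R : Subgroup G} {a y : G}

theorem bessel (T : Finset G) (hT : ∀ t ∈ T, ∀ h : G, h * t * h⁻¹ ∈ T → h ∈ H) :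
    ∑ χ : IrrCharacter G, ‖∑ t ∈ T, (χ : G → ℂ) t‖ ^ 2 ≤ T.card * #H := by
  have e : ((∑ χ : IrrCharacter G, ‖∑ t ∈ T, (χ : G → ℂ) t‖ ^ 2 : ℝ) : ℂ) =
      ((∑ t ∈ T, (Finset.univ.filter fun h : G => h * t * h⁻¹ ∈ T).card : ℕ) : ℝ) := by
    push_cast
    simp_rw [← Complex.mul_conj', map_sum, Finset.sum_mul_sum]
    rw [Finset.sum_comm]
    refine Finset.sum_congr rfl fun t ht => ?_
    rw [Finset.sum_comm, Finset.card_eq_sum_card_fiberwise (f := fun h : G => h * t * h⁻¹) (t := T)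
      (s := Finset.univ.filter fun h : G => h * t * h⁻¹ ∈ T) (fun h hh => (Finset.mem_filter.1 hh).2)]
    push_cast
    refine Finset.sum_congr rfl fun s hs => ?_
    rw [sum_irr_mul_conj, Finset.filter_filter]
    split_ifs with c
    · rw [← card_filter_conj_eq c]
      congr 2; ext h; simp only [Finset.mem_filter, Finset.mem_univ, true_and]
      exact ⟨fun e => ⟨e ▸ hs, e⟩, fun e => e.2⟩
    · rw [eq_comm, Nat.cast_eq_zero, Finset.card_eq_zero, Finset.filter_eq_empty_iff]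
      exact fun h _ e => c (isConj_iff.2 ⟨h, e.2⟩)
  rw [Complex.ofReal_injective e]
  norm_cast
  rw [← smul_eq_mul, ← Finset.sum_const]
  refine Finset.sum_le_sum fun t ht => ?_
  rw [Nat.card_eq_fintype_card, Fintype.card_subtype]
  exact Finset.card_le_card fun h hh => by simpa using hT t ht h (by simpa using hh)

theorem deg_lower [IsSimpleGroup G] {χ : IrrCharacter G} (h1 : χ ≠ irrOne G) (y1 : y ≠ 1)
    (hχ : (χ : G → ℂ) (a * y) = (χ : G → ℂ) a) (h2 : a * a = 1) (ra : R ≤ C1[a]) (ry : R ≤ C1[y])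
    (hin : ∀ x, IsConj a x → x ∈ C1[a] → x ≠ a → IsConj (x * a) (x * (a * y)))
    (hout : ∀ x, IsConj a x → x ∉ C1[a] → C1[x] ⊓ R = ⊥) : (#R : ℝ) ≤ 2 * ‖(χ : G → ℂ) 1‖ := by
  have cf := χ.2.isClassFunction
  have ch := χ.2.isCharacter
  set I := Finset.univ.filter fun x => IsConj a x
  set f : G → ℂ := fun x => (χ : G → ℂ) (x * (a * y)) - (χ : G → ℂ) (x * a)
  have e1 : ∑ x ∈ I, f x = 0 := by
    have := (sum_conj_eq a fun x => (χ : G → ℂ) (x * (a * y))).symm.trans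
      ((sum_conj_irr χ (a * y) a).trans (by
        rw [hχ, ← sum_conj_irr χ a a, sum_conj_eq a fun x => (χ : G → ℂ) (x * a)]))
    rw [Finset.sum_sub_distrib, sub_eq_zero]
    exact mul_left_cancel₀ (Nat.cast_ne_zero.2 (card_ne _)) this
  have e2 : ∑ x ∈ I.filter (· ∈ C1[a]), f x = (χ : G → ℂ) y - (χ : G → ℂ) 1 := by
    rw [Finset.sum_eq_single_of_mem a (Finset.mem_filter.2 ⟨Finset.mem_filter.2
      ⟨Finset.mem_univ _, IsConj.refl a⟩, mem_C1_self a⟩) fun x hx ne => by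
      simp only [I, Finset.mem_filter] at hx
      exact sub_eq_zero.2 (cf.of_isConj (hin x hx.1.2 hx.2 ne)).symm]
    simp only [f, ← mul_assoc, h2, one_mul]
  obtain ⟨T, t1, t2⟩ := orb_sum R f (I.filter (· ∉ C1[a])) (fun r hr x hx => by
      simp only [I, Finset.mem_filter, Finset.mem_univ, true_and] at hx ⊢
      exact ⟨hx.1.trans (isConj_iff.2 ⟨r, rfl⟩), fun e => hx.2 (by
        simpa [mul_assoc] using conj_mem' (normG _ (ra hr)) e)⟩)
    fun r hr x hx => by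
      have e3 := mem_C1.1 (ra hr)
      have e4 := mem_C1.1 (ry hr)
      simp only [f]
      rw [← cf.conj' (r * x * r⁻¹ * (a * y)) r, ← cf.conj' (r * x * r⁻¹ * a) r]
      rw [show r⁻¹ * (r * x * r⁻¹ * (a * y)) * r = x * r⁻¹ * a * (y * r) by group, ← e4,
        show x * r⁻¹ * a * (r * y) = x * r⁻¹ * (a * r) * y by group,
        show r⁻¹ * (r * x * r⁻¹ * a) * r = x * r⁻¹ * (a * r) by group, ← e3]
      congr 2 <;> group
  rw [← Finset.sum_filter_add_sum_filter_not I (· ∈ C1[a]), e2, t2, Finset.sum_congr rfl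
    (g := fun x => #R • f x) fun x hx => by
      have := Finset.mem_filter.1 (t1 hx)
      rw [← inf_relIndex_right, hout x (by simpa [I] using this.1) this.2, relIndex_bot_left],
    ← Finset.smul_sum, nsmul_eq_mul] at e1
  set w := ∑ x ∈ T, f x
  have wi : IsIntegral ℤ w := IsIntegral.sum _ fun x _ => (ch.isIntegral _).sub (ch.isIntegral _)
  have R0 : (0 : ℝ) < #R := Nat.cast_pos.2 (card_pos R)
  by_contra hc
  push Not at hc
  have k : ∀ σ : ℂ ≃+* ℂ, ‖σ w‖ < 1 := fun σ => by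
    have e3 := congrArg σ e1
    rw [map_add, map_sub, map_mul, map_natCast, map_zero] at e3
    have e4 := (ch.map_ringHom σ).norm_le y
    obtain ⟨n, hn⟩ := ch.exists_nat
    simp only [RingHom.coe_coe, hn, map_natCast] at e3 e4 hc
    have e5 : ‖((#R : ℕ) : ℂ) * σ w‖ ≤ ‖(n : ℂ)‖ + ‖σ ((χ : G → ℂ) y)‖ := by
      rw [show ((#R : ℕ) : ℂ) * σ w = n - σ ((χ : G → ℂ) y) by linear_combination e3]
      exact norm_sub_le _ _
    rw [norm_mul, Complex.norm_natCast (#R)] at e5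
    nlinarith
  rcases eq_zero_or_norm_eq_one wi fun σ => (k σ).le with e | e
  · rw [e, mul_zero, add_zero, sub_eq_zero, ← ch.mem_charKer,
      χ.2.charKer_eq_bot_of_simple fun e => h1 (Subtype.ext e), mem_bot] at e1
    exact y1 e1
  · exact (k (RingEquiv.refl ℂ)).ne e

theorem estimate [IsSimpleGroup G] (ha : orderOf a = 2) (T : Finset G) (T0 : T.Nonempty)
    (hT : ∀ t ∈ T, ∀ h : G, h * t * h⁻¹ ∈ T → h ∈ C1[a])
    (h4 : ∀ t ∈ T, ∀ u x z : G, IsPPart 2 (u * a * u⁻¹ * a) x → IsPPart 2 t z → ¬ IsConj x z)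
    (hy : y ∈ O'[C1[a]]) (y1 : y ≠ 1) (ra : R ≤ C1[a]) (ry : R ≤ C1[y])
    (hin : ∀ x, IsConj a x → x ∈ C1[a] → x ≠ a → IsConj (x * a) (x * (a * y)))
    (hout : ∀ x, IsConj a x → x ∉ C1[a] → C1[x] ⊓ R = ⊥) {c d : ℝ} (c0 : 0 ≤ c)
    (hc : (#C1[a] : ℝ) ≤ (c ^ 2 + 1) * T.card) (hd : (#C1[a] : ℝ) ≤ (d + 1) * #O'[C1[a]]) :
    (#R : ℝ) ≤ 2 * c * d := by
  have := Fact.mk Nat.prime_two
  obtain ⟨M, hM⟩ := exists_isPModular 2 Nat.prime_two
  have : PMod 2 M := ⟨hM⟩
  have a2 : ∃ k, orderOf a = 2 ^ k := ⟨1, ha⟩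
  have cst : ∀ χ ∈ principalBlock M G, ∀ v ∈ O'[C1[a]], (χ : G → ℂ) (a * v) = (χ : G → ℂ) a :=
    fun χ hχ v hv => S0942.result 2 M hM a a2 v (by
      rwa [centralizerPPrimeCore, pPrimeCore_map Nat.prime_two]) χ hχ
  set B := (Finset.univ.filter (· ∈ principalBlock M G)).erase (irrOne G) with hB
  have B1 : irrOne G ∈ Finset.univ.filter (· ∈ principalBlock M G) := by
    simp [irrOne_mem_principal]
  have sp : ∀ {N : Type} [AddCommMonoid N] (F : IrrCharacter G → N),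
      ∑ χ ∈ Finset.univ.filter (· ∈ principalBlock M G), F χ = F (irrOne G) + ∑ χ ∈ B, F χ :=
    fun F => (Finset.add_sum_erase _ _ B1).symm
  have one : ∀ g, (irrOne G : G → ℂ) g = 1 := fun _ => rfl
  have T1 : (0 : ℝ) < T.card := Nat.cast_pos.2 T0.card_pos
  have O1 : (0 : ℝ) < #O'[C1[a]] := Nat.cast_pos.2 (card_pos _)
  set v : IrrCharacter G → ℂ := fun χ => ∑ t ∈ T, (χ : G → ℂ) t
  have bs : ∀ (T : Finset G), (∀ t ∈ T, ∀ h : G, h * t * h⁻¹ ∈ T → h ∈ C1[a]) →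
      (T.card : ℝ) ^ 2 + ∑ χ ∈ B, ‖∑ t ∈ T, (χ : G → ℂ) t‖ ^ 2 ≤ T.card * #C1[a] := fun T hT => by
    have := (Finset.sum_le_sum_of_subset_of_nonneg (Finset.filter_subset (· ∈ principalBlock M G) _)
      fun _ _ _ => sq_nonneg _).trans (bessel T hT)
    rw [sp] at this
    simpa [one] using this
  have e1 : ∀ χ ∈ B, ‖v χ‖ ≤ c * T.card := fun χ hχ => by
    have := (Finset.single_le_sum (f := fun χ => ‖v χ‖ ^ 2) (fun _ _ => sq_nonneg _) hχ)
    have := bs T hT
    exact abs_le_of_sq_le_sq' (by nlinarith) (by positivity) |>.2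
  have e2 : ∑ χ ∈ B, ‖(χ : G → ℂ) a‖ ^ 2 ≤ d := by
    set U := (Finset.univ.filter (· ∈ O'[C1[a]])).image (a * ·)
    have pp : ∀ t ∈ U, IsPPart 2 t a := fun t ht => by
      obtain ⟨v, hv, rfl⟩ := Finset.mem_image.1 ht
      have hv := (Finset.mem_filter.1 hv).2
      exact ppart_mk (mem_C1'.1 (O_le _ _ hv)) a2 ((pin_compl Nat.prime_two).1 ((O_pig _ _).elt hv))
    have cU : U.card = #O'[C1[a]] := by
      rw [Finset.card_image_of_injective _ (mul_right_injective a), Nat.card_eq_fintype_card,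
        Fintype.card_subtype]
    have := bs U fun t ht h hh => mem_C1.2 (mul_inv_eq_iff_eq_mul.1
      (ppart_unique Nat.prime_two (ppart_conj (pp t ht) h) (pp _ hh)))
    rw [Finset.sum_congr rfl (g := fun χ : IrrCharacter G => (#O'[C1[a]] : ℝ) ^ 2 *
      ‖(χ : G → ℂ) a‖ ^ 2) fun χ hχ => by
        rw [Finset.sum_congr rfl (g := fun _ => (χ : G → ℂ) a) fun t ht => by
          obtain ⟨v, hv, rfl⟩ := Finset.mem_image.1 ht
          exact cst χ (by simpa using Finset.mem_of_mem_erase hχ) v (Finset.mem_filter.1 hv).2,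
          Finset.sum_const, cU, nsmul_eq_mul, norm_mul, mul_pow, Complex.norm_natCast],
      ← Finset.mul_sum, cU] at this
    nlinarith [mul_pos O1 O1]
  have e3 : (T.card : ℂ) + ∑ χ ∈ B, (χ : G → ℂ) a * (χ : G → ℂ) a / (χ : G → ℂ) 1 * conj (v χ) = 0 := by
    have k : ∀ t ∈ T, ∑ χ ∈ Finset.univ.filter (· ∈ principalBlock M G),
        (χ : G → ℂ) a * (χ : G → ℂ) a / (χ : G → ℂ) 1 * conj ((χ : G → ℂ) t) = 0 := fun t ht => by
      obtain ⟨z, hz⟩ := exists_ppart Nat.prime_two t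
      have : ∑ u : G, ∑ χ ∈ Finset.univ.filter (· ∈ principalBlock M G),
          (χ : G → ℂ) (u * a * u⁻¹ * a) * conj ((χ : G → ℂ) t) = 0 :=
        Finset.sum_eq_zero fun u _ => by
          obtain ⟨x, hx⟩ := exists_ppart Nat.prime_two (u * a * u⁻¹ * a)
          have := block_orth (isPBlock_principal (M := M)) hx hz (h4 t ht u x z hx hz)
          rwa [finsum_mem_irr] at this
      rw [Finset.sum_comm] at this
      simp_rw [← Finset.sum_mul, sum_conj_irr] at this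
      refine mul_left_cancel₀ (Nat.cast_ne_zero.2 (Nat.card_pos (α := G)).ne') ?_
      rw [mul_zero, ← this, Finset.mul_sum]
      exact Finset.sum_congr rfl fun χ _ => by ring
    have := Finset.sum_eq_zero k
    rw [Finset.sum_comm, sp] at this
    simpa [one, v, Finset.mul_sum] using this
  have e4 : (T.card : ℝ) * #R ≤ ∑ χ ∈ B, ‖(χ : G → ℂ) a‖ ^ 2 * (2 * (c * T.card)) := by
    rw [show (T.card : ℝ) = ‖(T.card : ℂ)‖ by simp, eq_neg_of_add_eq_zero_left e3, norm_neg]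
    refine (mul_le_mul_of_nonneg_right (norm_sum_le _ _) (Nat.cast_nonneg _)).trans ?_
    rw [Finset.sum_mul, ← norm_neg, ← eq_neg_of_add_eq_zero_left e3, Complex.norm_natCast]
    refine Finset.sum_le_sum fun χ hχ => ?_
    have k := deg_lower (Finset.ne_of_mem_erase hχ) y1
      (cst χ (by simpa using Finset.mem_of_mem_erase hχ) y hy) (Inv.sq_of_ord2 ha) ra ry hin hout
    have n0 : 0 < ‖(χ : G → ℂ) 1‖ := norm_pos_iff.2 χ.2.one_ne_zero
    rw [norm_mul, norm_div, norm_mul, Complex.norm_conj, ← pow_two, div_mul_eq_mul_div,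
      div_mul_eq_mul_div, div_le_iff₀ n0, mul_assoc, mul_assoc]
    refine mul_le_mul_of_nonneg_left ?_ (sq_nonneg _)
    calc _ ≤ c * T.card * (2 * ‖(χ : G → ℂ) 1‖) :=
          mul_le_mul (e1 χ hχ) k (Nat.cast_nonneg _) (by positivity)
      _ = _ := by ring
  rw [← Finset.sum_mul] at e4
  have := mul_le_mul_of_nonneg_right e2 (by positivity : 0 ≤ 2 * (c * (T.card : ℝ)))
  nlinarith

end Cfsg.Agent.Gs
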