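import Cfsg.Agent.Gs.St2
import Cfsg.Agent.Gs.Ch

/-! The final contradiction. -/

set_option autoImplicit false
set_option linter.unusedVariables false
set_option linter.unusedSectionVars false

namespace Cfsg.Agent.Gs

open Cfsg Cfsg.Agent.BG Cfsg.Agent.Dih Cfsg.Agent.GW Subgroup PHom
open Cfsg.Agent.Comp (Lay FStar SubIn Lay_le Lay_normal Lay_perfect)
open Cfsg.Agent.H8 (N_coatom')
open Cfsg.Agent.Inv (ord2_iff sq_of_ord2 ne_one_of_ord2 inv_of_ord2 orderOf_conj' orderOf_conj''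
  kf_sq kf_ord kf_comm kf_cases kf_exists_ne kf_of_card kf_mem_centralizer kf_sq_mem_centralizer)
open scoped commutatorElement

universe u

variable {G : Type u} [Group G] [Finite G]
  {A B E H K L M P Q R S T W X Z : Subgroup G} {a b g n s t u v x y z : G} {p q : ℕ}

namespace MC

variable (h : MC S A a b g)
include h

theorem eq_a (hy : y ∈ KK a b) (y1 : y ≠ 1) (ht : t * t = 1) (h1 : t ∈ C1[a]) (h2 : t ∈ C1[y]) :
    t = 1 ∨ t = a := or_iff_not_imp_left.2 fun t1 => by_contra fun ne =>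
  y1 (one_of_inv (PiG.odd h.K_odd hy) (h.iv_of_inv (ord2_iff.2 ⟨ht, t1⟩) h1 ne y hy) (C1_symm h2))

theorem u4 (hu : u ∈ Fb S a) : orderOf u = 4 := by
  have := Fact.mk Nat.prime_two
  refine orderOf_eq_prime_pow (p := 2) (n := 1) (by rw [pow_one, pow_two, hu.2]; exact h.a1) ?_
  rw [show 2 ^ (1 + 1) = 2 * 2 from rfl, pow_mul, pow_two u, hu.2, pow_two, h.sqA h.aA]

theorem stabK (hy : y ∈ KK a b) (y1 : y ≠ 1) (hu : u ∈ Fb S a) (uy : u ∈ C1[y]) :
    C1[y] ⊓ S = zpowers u := by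
  refine le_antisymm (fun v hv => ?_) (zpowers_le.2 (mem_inf.2 ⟨uy, hu.1⟩))
  have k : ∀ w ∈ C1[y] ⊓ S, w * w = 1 → w ∈ zpowers u := fun w hw e => by
    rcases h.eq_a hy y1 e (h.SC h.aA hw.2) hw.1 with rfl | rfl
    exacts [one_mem _, hu.2 ▸ mul_mem (mem_zpowers u) (mem_zpowers u)]
  have k2 : ∀ w ∈ C1[y] ⊓ S, w * w = 1 ∨ w * w = a := fun w hw =>
    h.eq_a hy y1 (h.sqA (h.sq w hw.2)) (h.SC h.aA (mul_mem hw.2 hw.2)) (mul_mem hw.1 hw.1)
  have uv := mul_mem (mem_inf.2 ⟨uy, hu.1⟩) hv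
  rcases k2 v hv with e | e
  · exact k v hv e
  rcases k2 _ uv with e' | e'
  · exact (mul_mem_cancel_left (mem_zpowers u)).1 (k _ uv e')
  · exact absurd (hu.2.symm.trans (h.noQ u hu.1 v hv.2 (hu.2.trans e.symm) (e'.trans hu.2.symm))) h.a1

theorem dvd16 (h1 : W ≤ KK a b) (h2 : S ≤ N[W]) : 16 ∣ #W - 1 := by
  rw [show #W = (W : Set G).ncard from Nat.card_coe_set_eq _,
    ← Set.ncard_sdiff_singleton_of_mem (one_mem W)]
  refine dvd_ncard (R := S) (fun s hs x hx => ⟨conj_mem (h2 hs) hx.1, by simpa using hx.2⟩)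
    fun y hy => ?_
  have e := card_inf_mul_relIndex C1[y] S
  have : #(C1[y] ⊓ S) ∣ 4 := by
    by_cases c : ∃ u ∈ Fb S a, u ∈ C1[y]
    · obtain ⟨u, hu, uy⟩ := c
      rw [h.stabK (h1 hy.1) hy.2 hu uy, card_zpowers', h.u4 hu]
    refine (cardS (A := C1[y] ⊓ S) (B := A) fun w hw => h.inv w hw.2 ?_).trans h.cardA.dvd
    exact (h.eq_a (h1 hy.1) hy.2 (h.sqA (h.sq w hw.2)) (h.SC h.aA (mul_mem hw.2 hw.2))
      (mul_mem hw.1 hw.1)).resolve_right fun e => c ⟨w, ⟨hw.2, e⟩, hw.1⟩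
  obtain ⟨c, hc⟩ := this
  rw [h.card, show 64 = 4 * 16 from rfl, hc, mul_assoc] at e
  exact ⟨c, by rw [Nat.eq_of_mul_eq_mul_left (card_pos _) e, mul_comm]⟩

theorem card_K (hu : u ∈ Fb S a) : #(KK a b) = #(KK a b ⊓ C1[u]) * #(KK a b ⊓ C1[u]) := by
  have nu := h.K_norm (h.SC h.aA hu.1)
  have : IsProd (KK a b ⊓ C1[u]) (KK a b ⊓ C1[u * b]) (KK a b) := ⟨inf_le_left, inf_le_left, fun x hx => by
    obtain ⟨y, hy, rfl⟩ := exists_sq (PiG.odd h.K_odd hx)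
    replace hy := zpowers_le.2 hx hy
    have hy' := conj_mem nu hy
    have c := mem_C_comm h.K_abel hy hy'
    have e : u * (u * y * u⁻¹) * u⁻¹ = y := by
      rw [show u * (u * y * u⁻¹) * u⁻¹ = u * u * y * (u * u)⁻¹ by group, hu.2, ← mem_C1.1 (h.K_H hy),
        mul_inv_cancel_right]
    generalize hw : u * y * u⁻¹ = w at *
    refine ⟨y * w, mem_inf.2 ⟨mul_mem hy hy', mem_C1'.2 (mul_inv_eq_iff_eq_mul.1 ?_)⟩, w⁻¹ * y,
      mem_inf.2 ⟨mul_mem (inv_mem hy') hy, mem_C1'.2 (mul_inv_eq_iff_eq_mul.1 ?_)⟩, by group⟩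
    · rw [show u * (y * w) * u⁻¹ = u * y * u⁻¹ * (u * w * u⁻¹) by group, hw, e, c]
    · rw [show u * b * (w⁻¹ * y) * (u * b)⁻¹ = u * (b * (w⁻¹ * y) * b⁻¹) * u⁻¹ by group,
        h.K_iv _ (mul_mem (inv_mem hy') hy),
        show u * (w⁻¹ * y)⁻¹ * u⁻¹ = (u * y * u⁻¹)⁻¹ * (u * w * u⁻¹) by group, hw, e]⟩
  have e := this.card
  rw [eq_bot_iff.2 (h.K_iv.inf_bot h.K_odd ▸ fun x hx => mem_inf.2 ⟨hx.1.1, C1_symm
    ((mul_mem_cancel_left (C1_symm hx.1.2)).1 (C1_symm hx.2.2))⟩ : _ ⊓ (KK a b ⊓ C1[u * b]) ≤ ⊥),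
    card_bot', mul_one] at e
  obtain ⟨s, hs, e2⟩ := h.cls u hu.1 (h.not_mem hu) b h.bA
  rw [e, ← e2, ← cj_C1]
  nth_rw 2 [← cj_of_mem_N (h.K_norm (h.SC h.aA hs))]
  rw [← cj_inf, card_cj]

theorem card_Nu (hu : u ∈ Fb S a) : 32 ∣ #(S ⊓ N[zpowers u]) := by
  have e1 : (C1[u]).relIndex S ≤ 4 := by
    rw [← ncard_orb, ← h.cardA, show #A = (A : Set G).ncard from Nat.card_coe_set_eq _,
      ← Set.ncard_image_of_injective (A : Set G) (mul_left_injective u)]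
    refine Set.ncard_le_ncard ?_
    rintro _ ⟨s, hs, rfl⟩
    exact ⟨_, h.comm_memA hs hu.1, by simp⟩
  have e2 := card_inf_mul_relIndex C1[u] S
  obtain ⟨s, hs, e⟩ := h.cls u hu.1 (h.not_mem hu) a h.aA
  have e3 : #(C1[u] ⊓ S) < #(S ⊓ N[zpowers u]) := card_lt (lt_of_le_not_ge
    (le_inf inf_le_right (norm_zpowers inf_le_left)) fun le => h.a1 (by
      have := le (mem_inf.2 ⟨hs, mem_N_of_cj_le (by
        rw [cj_zpowers, e, zpowers_le, ← hu.2]
        exact mul_mem (mem_zpowers u) (mul_mem (mem_zpowers u) (mem_zpowers u)))⟩)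
      rwa [mem_C1.1 this.1, mul_inv_cancel_right, left_eq_mul] at e))
  have e4 : #(S ⊓ N[zpowers u]) ∣ 2 ^ 6 := (cardS inf_le_left).trans h.card.dvd
  obtain ⟨k, hk, e4⟩ := (Nat.dvd_prime_pow Nat.prime_two).1 e4
  rw [h.card] at e2
  have : 16 ≤ #(C1[u] ⊓ S) := by nlinarith
  rw [e4] at e3 ⊢
  interval_cases k <;> omega

theorem idx8 (hy : y ∈ KK a b) (y1 : y ≠ 1) (hu : u ∈ Fb S a) (uy : u ∈ C1[y]) :
    8 ∣ (C1[y]).relIndex (S ⊓ N[zpowers u]) := by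
  have e := card_inf_mul_relIndex C1[y] (S ⊓ N[zpowers u])
  rw [← inf_assoc, h.stabK hy y1 hu uy, inf_eq_left.2 (normG _), card_zpowers', h.u4 hu] at e
  have := h.card_Nu hu
  omega

theorem K_cases : #(KK a b) = 81 ∨ 625 ≤ #(KK a b) := by
  obtain ⟨u, hu⟩ := h.exists_u
  have n : S ⊓ N[zpowers u] ≤ N[KK a b ⊓ C1[u]] :=
    normI (inf_le_left.trans ((h.SC h.aA).trans h.K_norm)) (C_zpowers u ▸ normC inf_le_right)
  have e1 : 8 ∣ #(KK a b ⊓ C1[u]) - 1 := by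
    rw [show #(KK a b ⊓ C1[u]) = ((KK a b ⊓ C1[u] : Subgroup G) : Set G).ncard from
      Nat.card_coe_set_eq _, ← Set.ncard_sdiff_singleton_of_mem (one_mem _)]
    exact dvd_ncard (fun s hs x hx => ⟨conj_mem (n hs) hx.1, by simpa using hx.2⟩)
      fun y hy => h.idx8 hy.1.1 hy.2 hu (C1_symm hy.1.2)
  have e2 := one_lt_card h.K_ne
  have e3 : #(KK a b ⊓ C1[u]) ≠ 17 := fun e => by
    have p17 : (#(KK a b ⊓ C1[u])).Prime := e ▸ by norm_num
    have := Fact.mk p17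
    have := cyc_of_prime p17
    have : IsCyclic (MulAut ↥(KK a b ⊓ C1[u])) :=
      isCyclic_of_surjective _ (IsCyclic.mulAutMulEquiv _).symm.surjective
    obtain ⟨φ, hφ⟩ := cyc_iff.1 (inferInstance : Cyc ((aut (KK a b ⊓ C1[u])).im (S ⊓ N[zpowers u])))
    obtain ⟨s, hs, rfl⟩ := (mem_im' n).1 (hφ ▸ mem_zpowers φ)
    obtain ⟨y, hy, y1⟩ := exists_mem_ne_one (ne_bot_of_prime p17)
    have := h.idx8 hy.1 y1 hu (C1_symm hy.2)
    rw [C1_eq_of_prime p17 hy y1, ← card_aut_im n, ← hφ, card_zpowers'] at this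
    have := this.trans ((orderOf_app_dvd (n hs)).trans (orderOf_dvd_of_pow_eq_one (n := 2 * 2) (by
      rw [pow_mul, pow_two, pow_two, h.sqA (h.sq s hs.1)])))
    omega
  rw [h.card_K hu] at e2 ⊢
  generalize #(KK a b ⊓ C1[u]) = m at *
  have : m = 0 ∨ m = 1 ∨ m = 9 ∨ 25 ≤ m := by omega
  rcases this with rfl | rfl | rfl | e
  · omega
  · omega
  · exact Or.inl rfl
  · exact Or.inr (Nat.mul_le_mul e e)

theorem card_H : #C1[a] ∣ 64 * #O'[C1[a]] * (S ⊔ C[S]).relIndex (N[S] ⊓ C[A]) := by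
  have n := (h.SC h.aA).trans (O_norm {2}ᶜ _)
  have le : O'[C1[a]] ⊔ S ≤ C1[a] := sup_le (O_le _ _) (h.SC h.aA)
  have le2 := sup_le_sup_right h.Th_le S
  have : IsProd (O'[C1[a]] ⊔ S) (N[S] ⊓ C[A]) C1[a] :=
    ⟨le, inf_le_right.trans (C_le_C1 h.aA), fun x hx => by
      obtain ⟨o, ho, c, hc, rfl⟩ := h.zC.symm.ex x hx
      obtain ⟨l, hl, m, hm, rfl⟩ := h.frat.ex c hc
      exact ⟨o * l, mul_mem (mem_sup_left ho) (le2 hl), m, hm, by group⟩⟩
  rw [← card_mul_relIndex le, this.relIndex, ← (sdprod_sup ((O_pig _ _).inf_bot' h.pig) n).card,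
    h.card, mul_comm 64]
  exact Nat.mul_dvd_mul_left _ (relIndex_dvd_left (sup_le le_sup_right (h.CS_le.trans le2)) _)

theorem bound {c d : ℝ} {j : ℕ} (hj : (S ⊔ C[S]).relIndex (N[S] ⊓ C[A]) ≤ j) (c0 : 0 ≤ c)
    (hc : 64 * (j : ℝ) ≤ (c ^ 2 + 1) * 20) (hd : 64 * (j : ℝ) ≤ d + 1) :
    4 * (#(KK a b) : ℝ) ≤ 2 * c * d := by
  classical
  have := h.simple
  have := Fintype.ofFinite G
  obtain ⟨u, hu⟩ := h.exists_u
  obtain ⟨y, hy, y1⟩ := exists_mem_ne_one (A := KK a b ⊓ C1[u]) fun e => by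
    have := one_lt_card h.K_ne
    rw [h.card_K hu, e, card_bot'] at this; omega
  have nu := zpowers_le.2 (h.K_norm (h.SC h.aA hu.1))
  have pu := h.pig.of_le (zpowers_le.2 hu.1)
  have sd := sdprod_sup (h.K_odd.inf_bot' pu) nu
  have ra : KK a b ⊔ zpowers u ≤ C1[a] := sup_le h.K_H (zpowers_le.2 (h.SC h.aA hu.1))
  have ry : KK a b ⊔ zpowers u ≤ C1[y] :=
    sup_le (h.K_abel.trans (C_le_C1 hy.1)) (zpowers_le.2 (C1_symm hy.2))
  have n := (h.SC h.aA).trans (O_norm {2}ᶜ _)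
  set T := ((Fb S a).toFinset ×ˢ (O'[C1[a]] : Set G).toFinset).image fun p => p.1 * p.2
  have cT : T.card = 20 * #O'[C1[a]] := by
    rw [Finset.card_image_of_injOn fun p hp q hq e => by
      simp only [Finset.coe_product, Set.coe_toFinset, Set.mem_prod, SetLike.mem_coe] at hp hq
      have : q.1⁻¹ * p.1 = 1 := by
        rw [← mem_bot, ← h.pig.inf_bot (O_pig {2}ᶜ C1[a])]
        exact mem_inf.2 ⟨mul_mem (inv_mem hq.1.1) hp.1.1, by
          rw [eq_mul_inv_of_mul_eq e, ← mul_assoc, inv_mul_cancel_left]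
          exact mul_mem hq.2 (inv_mem hp.2)⟩
      rw [inv_mul_eq_one] at this
      exact Prod.ext this.symm (mul_left_cancel (this ▸ e)),
      Finset.card_product, ← Set.ncard_eq_toFinset_card', ← Set.ncard_eq_toFinset_card', h.fib]
    rfl
  have pp : ∀ t ∈ T, IsPPart 2 (t * t) a := fun t ht => by
    obtain ⟨⟨v, o⟩, hp, rfl⟩ := Finset.mem_image.1 ht
    simp only [Finset.mem_product, Set.mem_toFinset, SetLike.mem_coe] at hp
    have m := mul_mem (conj_mem' (n hp.1.1) hp.2) hp.2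
    rw [show v * o * (v * o) = v * v * (v⁻¹ * o * v * o) by group, hp.1.2]
    exact Blk.ppart_mk (mem_C1'.1 (O_le _ _ m)) ⟨1, h.oa⟩
      ((pin_compl Nat.prime_two).1 ((O_pig _ _).elt m))
  have cH : (#C1[a] : ℝ) ≤ 64 * j * #O'[C1[a]] := by
    have := (Nat.le_of_dvd (Nat.mul_pos (Nat.mul_pos (by norm_num) (card_pos _)) (relIndex_pos _ _))
      h.card_H).trans (Nat.mul_le_mul_left _ hj)
    exact_mod_cast this.trans_eq (by ring)
  have O0 : (0 : ℝ) ≤ #O'[C1[a]] := Nat.cast_nonneg _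
  have := estimate h.oa T (Finset.card_pos.1 (by rw [cT]; exact Nat.mul_pos (by norm_num) (card_pos _)))
    (fun t ht k hk => mem_C1.2 (mul_inv_eq_iff_eq_mul.1 (Blk.ppart_unique Nat.prime_two
      (Blk.ppart_conj (pp t ht) k) (by convert pp _ hk using 1; group))))
    (fun t ht w x z hx hz e => by
      obtain ⟨k, rfl⟩ := isConj_iff.1 e
      have iv := iv_zpowers (t := a) (g := w * a * w⁻¹ * a) (by
        rw [mul_assoc a, mul_assoc _ a, mul_inv_cancel, mul_one, mul_inv_rev, h.invA h.aA]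
        simp [mul_assoc, h.invA h.aA]) x (Blk.ppart_mem_zpowers Nat.prime_two hx)
      obtain ⟨m, hm⟩ := Blk.ppart_order hx
      have := h.central (P := zpowers x ⊔ zpowers a) (PiG.sup_l (pig_zpowers.2 (by
        rw [PiE, hm]; exact pin_pow_self Nat.prime_two m)) (pig2 h.oa)
        (zpowers_le.2 (iv_zpowers iv).norm)) (mem_sup_right (mem_zpowers a)) (h.sqA h.aA)
        (mem_sup_left (mem_zpowers x))
      rw [← this, mul_inv_cancel_right, eq_inv_iff_mul_eq_one] at iv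
      obtain ⟨o, rfl, c, -, ho⟩ := hz
      have := pp _ ht
      rw [c.symm.mul_mul_mul_comm, show k * x * k⁻¹ * (k * x * k⁻¹) = k * (x * x) * k⁻¹ by group, iv,
        mul_one, mul_inv_cancel, one_mul] at this
      exact h.a1 (Blk.ppart_unique Nat.prime_two this (Blk.ppart_one fun e => ho
        (e.trans (by rw [← pow_two]; exact orderOf_pow_dvd 2)))))
    (h.K_le hy.1) y1 ra ry (fun x hx h1 ne => by
      have x2 : orderOf x = 2 := (Blk.orderOf_isConj hx).symm.trans h.oa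
      have t2 : orderOf (x * a) = 2 := ord2_iff.2 ⟨by
        rw [mul_assoc, ← mul_assoc a, ← mem_C1.1 h1, mul_assoc x, h.sqA h.aA, mul_one, sq_of_ord2 x2],
        fun e => ne (by rw [eq_inv_of_mul_eq_one_left e, h.invA h.aA])⟩
      have iv := h.iv_of_inv t2 (mul_mem h1 (mem_C1_self a))
        (fun e => ne_one_of_ord2 x2 (by simpa using e)) y hy.1
      obtain ⟨k, hk⟩ := h.conj_a t2
      obtain ⟨l, hl⟩ := h.conj_a (SE.ord_mul_inv t2 (PiG.odd h.K_odd hy.1) iv)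
      rw [← mul_assoc]
      exact (isConj_iff.2 ⟨k, hk⟩).symm.trans (isConj_iff.2 ⟨l, hl⟩))
    (fun x hx h1 => by_contra fun e => h1 (by
      obtain ⟨X, hX, pX⟩ := exists_prime_sub' e
      obtain ⟨r, hr, r1⟩ := exists_mem_ne_one (ne_bot_of_prime pX)
      have o : orderOf r = #X := by rw [← card_zpowers', eq_zpowers_of_prime pX hr r1]
      by_cases c : #X = 2
      · rcases h.eq_a hy.1 y1 (sq_of_ord2 (o.trans c)) (ra (hX hr).2) (ry (hX hr).2) with e | e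
        exacts [absurd e r1, e ▸ C1_symm (hX hr).1]
      · refine h.C_y (mem_of_cop_relIndex sd.nl (hX hr).2 ?_) r1 (C1_symm (hX hr).1)
        rw [sd.relIndex_l, o]
        exact (((pin_single_self pX).ne_compl c).coprime' pu))) c0
    (by rw [cT]; push_cast; nlinarith) (cH.trans (mul_le_mul_of_nonneg_right hd O0))
  rw [← sd.card, card_zpowers', h.u4 hu] at this
  push_cast at this
  linarith

end MC

end Cfsg.Agent.Gs
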