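import Cfsg.Agent.Gs.U
import Cfsg.Agent.SE.Fin
import Cfsg.Agent.S0217

/-! The centralizer of the four-group `Z(S)`. -/

set_option autoImplicit false
set_option linter.unusedVariables false
set_option linter.unusedSectionVars false

namespace Cfsg.Agent.Gs

open Cfsg Cfsg.Agent.BG Cfsg.Agent.Dih Cfsg.Agent.GW Subgroup PHom
open Cfsg.Agent.Inv (ord2_iff sq_of_ord2 ne_one_of_ord2 inv_of_ord2 orderOf_conj' orderOf_conj''
  kf_sq kf_ord kf_comm kf_cases kf_exists_ne kf_of_card kf_mem_centralizer kf_sq_mem_centralizer)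
open scoped commutatorElement

universe u

variable {G : Type u} [Group G] [Finite G] {Y : Type u} [Group Y] [Finite Y] {φ : PHom G Y}
  {A B E K M P Q R S T W X : Subgroup G} {a b g n s u v x y z : G} {r : ℕ}

theorem ncard_orb (R : Subgroup G) (x : G) :
    {y | ∃ d ∈ R, d * x * d⁻¹ = y}.ncard = (C1[x]).relIndex R := by
  have := (SE.card_conj R x).symm.trans (card_inf_mul_relIndex C1[x] R).symm
  rw [inf_comm] at this
  exact Nat.eq_of_mul_eq_mul_left (card_pos _) this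

theorem orb_sum {M : Type*} [AddCommMonoid M] (R : Subgroup G) (f : G → M) (T : Finset G)
    (hT : ∀ g ∈ R, ∀ x ∈ T, g * x * g⁻¹ ∈ T) (hf : ∀ g ∈ R, ∀ x ∈ T, f (g * x * g⁻¹) = f x) :
    ∃ T' ⊆ T, ∑ x ∈ T, f x = ∑ x ∈ T', (C1[x]).relIndex R • f x := by
  classical
  induction T using Finset.strongInduction with | H T ih => ?_
  rcases T.eq_empty_or_nonempty with rfl | ⟨x, hx⟩
  · exact ⟨∅, subset_rfl, by simp⟩
  set O := T.filter fun y => ∃ d ∈ R, d * x * d⁻¹ = y with hO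
  have xO : x ∈ O := Finset.mem_filter.2 ⟨hx, 1, one_mem _, by simp⟩
  have cO : O.card = (C1[x]).relIndex R := by
    rw [← ncard_orb, ← Set.ncard_coe_finset]
    congr 1; ext y
    simp only [hO, Finset.coe_filter, Set.mem_ofPred_eq]
    exact ⟨fun e => e.2, fun ⟨d, hd, e⟩ => ⟨e ▸ hT d hd x hx, d, hd, e⟩⟩
  have sO : O ⊆ T := Finset.filter_subset _ _
  obtain ⟨T', h1, h2⟩ := ih (T \ O) (Finset.sdiff_ssubset sO ⟨x, xO⟩) (fun g hg y hy => by
    rw [Finset.mem_sdiff] at hy ⊢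
    refine ⟨hT g hg y hy.1, fun e => hy.2 ?_⟩
    obtain ⟨-, d, hd, e⟩ := Finset.mem_filter.1 e
    exact Finset.mem_filter.2 ⟨hy.1, g⁻¹ * d, mul_mem (inv_mem hg) hd, by
      rw [show g⁻¹ * d * x * (g⁻¹ * d)⁻¹ = g⁻¹ * (d * x * d⁻¹) * g by group, e]; group⟩)
    fun g hg y hy => hf g hg y (Finset.mem_sdiff.1 hy).1
  refine ⟨insert x T', Finset.insert_subset hx (h1.trans Finset.sdiff_subset), ?_⟩
  rw [Finset.sum_insert fun e => (Finset.mem_sdiff.1 (h1 e)).2 xO, ← h2, ← Finset.sum_sdiff sO,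
    add_comm, ← cO, ← Finset.sum_const]
  congr 1
  refine Finset.sum_congr rfl fun y hy => ?_
  obtain ⟨-, d, hd, rfl⟩ := Finset.mem_filter.1 hy
  exact hf d hd x hx

theorem dvd_ncard {T : Set G} {k : ℕ} (hT : ∀ g ∈ R, ∀ x ∈ T, g * x * g⁻¹ ∈ T)
    (hk : ∀ x ∈ T, k ∣ (C1[x]).relIndex R) : k ∣ T.ncard := by
  obtain ⟨T', h1, h2⟩ := orb_sum R (fun _ => 1) (T.toFinite.toFinset) (by simpa using hT)
    fun _ _ _ _ => rfl
  rw [Set.ncard_eq_toFinset_card T, Finset.card_eq_sum_ones, h2]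
  exact Finset.dvd_sum fun x hx => by simpa using hk x (by simpa using h1 hx)

theorem modEq_fix (hr : r.Prime) (hR : PiG {r} R) {T : Set G}
    (hT : ∀ g ∈ R, ∀ x ∈ T, g * x * g⁻¹ ∈ T) : (T ∩ C[R]).ncard ≡ T.ncard [MOD r] := by
  rw [← Set.ncard_inter_add_ncard_sdiff_eq_ncard T C[R]]
  refine (Nat.modEq_iff_dvd' (Nat.le_add_right _ _)).2 ?_
  rw [Nat.add_sub_cancel_left]
  refine dvd_ncard (R := R) (fun g hg x hx => ⟨hT g hg x hx.1, fun e => hx.2 ?_⟩) fun x hx => ?_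
  · simpa [mul_assoc] using conj_mem' (normC (normG R) hg) e
  · obtain ⟨k, hk⟩ := (pin_single hr (relIndex_pos _ _).ne').1 (hR.relIndex C1[x])
    rcases k with _ | k
    · exact absurd (le_C1_iff.1 (relIndex_eq_one.1 hk)) hx.2
    · exact hk ▸ dvd_pow_self _ k.succ_ne_zero

theorem card_dvd_ncard {T : Set G} (h : ∀ x ∈ T, ∀ z ∈ A, x * z ∈ T) : #A ∣ T.ncard := by
  have : T = QuotientGroup.mk ⁻¹' ((QuotientGroup.mk : G → G ⧸ A) '' T) := by
    refine Set.Subset.antisymm (Set.subset_preimage_image _ _) ?_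
    rintro y ⟨x, hx, e⟩
    simpa using h x hx _ (QuotientGroup.eq.1 e)
  rw [this, ← Nat.card_coe_set_eq, QuotientGroup.card_preimage_mk]
  exact dvd_mul_right _ _

/-- a consequence of the solvable signalizer functor theorem -/
theorem sft_normal (hE : Syl 2 E ⊤) (ab : Abelem 2 E) (h8 : 8 ≤ #E)
    (pn : ∀ x ∈ E, x ≠ 1 → PNil 2 C1[x]) (hx : orderOf x = 2) (hy : orderOf y = 2)
    (nc : ¬ IsConj x y) : ∃ W : Subgroup G, PiG {2}ᶜ W ∧ ⊤ ≤ N[W] ∧ ⊤ ≤ N[W ⊔ E] := by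
  have := Fact.mk p2
  have EC : ∀ x ∈ E, E ≤ C1[x] := fun x hx => ab.abel.trans (C_le_C1 hx)
  obtain ⟨h1, -⟩ := S0217.result (p := 2) E (fun a ha b hb => mem_C_comm ab.abel ha hb) ab.pow h8
    (fun x => O'[C1[x]]) (fun _ _ _ => O_le _ _) (fun _ _ _ => (pin_compl p2).1 (O_pig _ _))
    (fun x hx _ b hb y hy => conj_mem (O_norm _ _ (EC x hx hb)) hy)
    (fun _ _ _ => sol_odd (O_pig _ _))
    fun a ha _ b hb b1 => (pn b hb b1).le_O inf_le_right ((O_pig _ _).of_le inf_le_left)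
  set W := ⨆ a : {a : G // a ∈ E ∧ a ≠ 1}, O'[C1[(a : G)]]
  have le : ∀ x ∈ E, x ≠ 1 → O'[C1[x]] ≤ W := fun x hx x1 =>
    le_iSup (fun a : {a : G // a ∈ E ∧ a ≠ 1} => O'[C1[(a : G)]]) ⟨x, hx, x1⟩
  have nW : N[E] ≤ N[W] := fun g hg => mem_N_of_cj_le (by
    rw [cj_le_iff]
    exact iSup_le fun a => by
      rw [← cj_le_iff, cj_O, cj_C1]
      exact le _ (conj_mem hg a.2.1) (by simpa using a.2.2))
  have c : ∀ x ∈ E, orderOf x = 2 → C1[x] ≤ W ⊔ E := fun x hx x2 =>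
    ((pn x hx (ne_one_of_ord2 x2)).sdprod (hE.sub (EC x hx) le_top)).sup.ge.trans
      (sup_le_sup_right (le x hx (ne_one_of_ord2 x2)) _)
  have key : ∀ M, N[E] ≤ M → W ≤ M → ⊤ ≤ M := fun M m1 m2 => by_contra fun e =>
    nc (Inv.se_isConj (se_Z hE (fun e => by rw [e, card_bot'] at h8; omega)
      (fun x hx _ => ab.abel hx) (fun e' => e e'.ge) m1
      fun x hx x2 => (c x hx x2).trans (sup_le m2 ((normG E).trans m1))) hx hy)
  exact ⟨W, (pin_compl p2).2 h1, key _ nW (normG W),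
    key _ (normY nW le_rfl) (le_sup_left.trans (normG _))⟩

/-- the elements of `T` with square `z` -/
def Fb (T : Subgroup G) (z : G) : Set G := {u | u ∈ T ∧ u * u = z}

/-- the involutions of `A` are permuted cyclically by `g` -/
structure LC (S A : Subgroup G) (a b g : G) : Prop extends UT S A where
  aA : a ∈ A
  a1 : a ≠ 1
  gN : g ∈ N[S]
  g1 : g * a * g⁻¹ = b
  g2 : g * b * g⁻¹ = a * b

namespace LC

variable (h : LC S A a b g)
include h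

theorem gA : g ∈ N[A] := h.NS h.gN
theorem bA : b ∈ A := h.g1 ▸ conj_mem h.gA h.aA
theorem cA : a * b ∈ A := mul_mem h.aA h.bA
theorem oa : orderOf a = 2 := h.ord h.aA h.a1
theorem ob : orderOf b = 2 := by rw [← h.g1, orderOf_conj', h.oa]
theorem oc : orderOf (a * b) = 2 := by rw [← h.g2, orderOf_conj', h.ob]
theorem b1 : b ≠ 1 := ne_one_of_ord2 h.ob
theorem c1 : a * b ≠ 1 := ne_one_of_ord2 h.oc
theorem ab : a ≠ b := fun e => h.c1 (by rw [← e, h.sqA h.aA])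
theorem ba : b * a = a * b := kf_comm h.kf h.bA h.aA
theorem aab : a * (a * b) = b := by rw [← mul_assoc, h.sqA h.aA, one_mul]
theorem bab : b * (a * b) = a := by rw [← h.ba, ← mul_assoc, h.sqA h.bA, one_mul]
theorem g3 : g * (a * b) * g⁻¹ = a := by
  rw [show g * (a * b) * g⁻¹ = g * a * g⁻¹ * (g * b * g⁻¹) by group, h.g1, h.g2, h.bab]
theorem memA (hx : x ∈ A) : x = 1 ∨ x = a ∨ x = b ∨ x = a * b :=
  kf_cases h.kf h.aA h.bA h.a1 h.b1 h.ab hx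
theorem rot : LC S A b (a * b) g := ⟨h.toUT, h.bA, h.b1, h.gN, h.g2, h.g3.trans h.bab.symm⟩
theorem symm : LC S A a (a * b) g⁻¹ := ⟨h.toUT, h.aA, h.a1, inv_mem h.gN,
  by rw [← h.g3]; nth_rw 2 [h.g3]; group, by rw [h.aab, ← h.g2]; group⟩
theorem CA : C[A] = C1[a] ⊓ C1[b] := le_antisymm (le_inf (C_le_C1 h.aA) (C_le_C1 h.bA))
  fun x hx => kf_mem_centralizer h.kf h.aA h.bA h.a1 h.b1 h.ab (mem_C1'.1 hx.1) (mem_C1'.1 hx.2)
theorem cj (k : G) : LC (BG.cj k S) (BG.cj k A) (k * a * k⁻¹) (k * b * k⁻¹) (k * g * k⁻¹) :=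
  ⟨h.toUT.cj k, mem_cj_conj.2 h.aA, by simpa using h.a1, by rw [← cj_N]; exact mem_cj_conj.2 h.gN,
    by rw [← h.g1]; group, by
      calc _ = k * (g * b * g⁻¹) * k⁻¹ := by group
        _ = _ := by rw [h.g2]; group⟩

theorem exists_conj (hx : x ∈ A) (x1 : x ≠ 1) : ∃ n ∈ N[S], n * a * n⁻¹ = x := by
  rcases h.memA hx with rfl | rfl | rfl | rfl
  exacts [absurd rfl x1, ⟨1, one_mem _, by simp⟩, ⟨g, h.gN, h.g1⟩, ⟨_, h.symm.gN, h.symm.g1⟩]

theorem conj_a (hx : orderOf x = 2) : ∃ k : G, k * a * k⁻¹ = x := by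
  obtain ⟨k, -, e⟩ := h.exists_cj (sq_of_ord2 hx) le_top (mem_top x)
  obtain ⟨n, -, e2⟩ := h.exists_conj e (by simpa using ne_one_of_ord2 hx)
  exact ⟨k⁻¹ * n, by rw [show k⁻¹ * n * a * (k⁻¹ * n)⁻¹ = k⁻¹ * (n * a * n⁻¹) * k by group, e2]; group⟩

theorem card_split (h1 : A ≤ T) (h2 : T ≤ S) :
    #T = 4 + ((Fb T a).ncard + ((Fb T b).ncard + (Fb T (a * b)).ncard)) := by
  have d : ∀ {z w : G}, z ≠ w → Disjoint (Fb T z) (Fb T w) := fun e =>
    Set.disjoint_left.2 fun u h1 h2 => e (h1.2.symm.trans h2.2)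
  have e : (A : Set G) = Fb T 1 := Set.ext fun x =>
    ⟨fun hx => ⟨h1 hx, h.sqA hx⟩, fun hx => h.inv x (h2 hx.1) hx.2⟩
  have ac : a ≠ a * b := h.symm.ab
  have bc : b ≠ a * b := h.rot.ab
  rw [← Set.ncard_union_eq (d bc), ← Set.ncard_union_eq (by simp [d h.ab, d ac]), ← h.cardA,
    show #A = (A : Set G).ncard from Nat.card_coe_set_eq _, e, ← Set.ncard_union_eq
      (by simp [d h.a1.symm, d h.b1.symm, d h.c1.symm]),
    show #T = (T : Set G).ncard from Nat.card_coe_set_eq _]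
  congr 1; ext x
  refine ⟨fun hx => ?_, ?_⟩
  · rcases h.memA (h.sq x (h2 hx)) with e | e | e | e
    exacts [.inl ⟨hx, e⟩, .inr (.inl ⟨hx, e⟩), .inr (.inr (.inl ⟨hx, e⟩)), .inr (.inr (.inr ⟨hx, e⟩))]
  · rintro (e | e | e | e) <;> exact e.1

theorem fib_eq : (Fb S a).ncard = (Fb S b).ncard :=
  Set.ncard_congr (fun u _ => g * u * g⁻¹)
    (fun u hu => ⟨conj_mem h.gN hu.1, by rw [← h.g1, ← hu.2]; group⟩) (fun _ _ _ _ e => by simpa using e)
    fun v hv => ⟨g⁻¹ * v * g, ⟨conj_mem' h.gN hv.1, by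
      rw [show g⁻¹ * v * g * (g⁻¹ * v * g) = g⁻¹ * (v * v) * g by group, hv.2, ← h.g1]; group⟩, by group⟩

theorem fib : (Fb S a).ncard = 20 := by
  have := h.card_split h.le le_rfl
  rw [h.card, ← h.rot.fib_eq, ← h.fib_eq] at this
  omega

theorem fix_aux (hr : r.Prime) (r2 : r ≠ 2) (hR : PiG {r} R) (h1 : R ≤ N[S]) (h2 : R ≤ C[A]) :
    (Fb (S ⊓ C[R]) a).ncard = 20 ∨ ((Fb (S ⊓ C[R]) a).ncard = 0 ∧ r = 5) ∨
      ((Fb (S ⊓ C[R]) a).ncard = 8 ∧ r = 3) := by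
  have e : Fb (S ⊓ C[R]) a = Fb S a ∩ C[R] := Set.ext fun x =>
    ⟨fun hx => ⟨⟨hx.1.1, hx.2⟩, hx.1.2⟩, fun hx => ⟨mem_inf.2 ⟨hx.1.1, hx.2⟩, hx.1.2⟩⟩
  have e1 := modEq_fix hr hR (T := Fb S a) fun k hk x hx => ⟨conj_mem (h1 hk) hx.1, by
    rw [show k * x * k⁻¹ * (k * x * k⁻¹) = k * (x * x) * k⁻¹ by group, hx.2,
      ← mem_C.1 (h2 hk) a h.aA, mul_inv_cancel_right]⟩
  have e2 := Set.ncard_le_ncard (Set.inter_subset_left : Fb S a ∩ C[R] ⊆ _)
  have e3 := card_dvd_ncard (A := A) (T := Fb (S ⊓ C[R]) a) fun x hx z hz =>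
    ⟨mul_mem hx.1 (mem_inf.2 ⟨h.le hz, cent_symm h2 hz⟩), (h.sq_mul hx.1.1 hz).trans hx.2⟩
  rw [← e, h.fib] at e1 e2
  rw [h.cardA] at e3
  generalize (Fb (S ⊓ C[R]) a).ncard = f at *
  have e4 := (Nat.modEq_iff_dvd' e2).1 e1
  obtain ⟨j, rfl⟩ := e3
  have : j ≤ 5 := by omega
  interval_cases j <;> simp only [Nat.reduceMul, Nat.reduceSub] at e4 ⊢
  all_goals first
    | exact Or.inl trivial
    | have := Nat.le_of_dvd (by norm_num) e4
      interval_cases r <;> first | omega | exact absurd hr (by decide) | simp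

theorem fixed (hr : r.Prime) (r2 : r ≠ 2) (hR : PiG {r} R) (h1 : R ≤ N[S]) (h2 : R ≤ C[A]) :
    R ≤ C[S] ∨ (r = 5 ∧ S ⊓ C[R] ≤ A) := by
  have le : A ≤ S ⊓ C[R] := le_inf h.le (cent_symm h2)
  have e := h.card_split le inf_le_left
  have d : #(S ⊓ C[R]) ∣ 64 := h.card ▸ cardS inf_le_left
  have k : #(S ⊓ C[R]) = 64 ∨ (r = 5 ∧ #(S ⊓ C[R]) = 4) := by
    rcases h.fix_aux hr r2 hR h1 h2 with e1 | ⟨e1, _⟩ | ⟨e1, _⟩ <;>
    rcases h.rot.fix_aux hr r2 hR h1 h2 with e2 | ⟨e2, _⟩ | ⟨e2, _⟩ <;>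
    rcases h.rot.rot.fix_aux hr r2 hR h1 h2 with e3 | ⟨e3, _⟩ | ⟨e3, _⟩ <;>
    rw [e1, e2, e3] at e <;> rw [e] at d ⊢ <;> omega
  exact k.imp (fun e => cent_symm ((eq_of_card_le inf_le_left (by rw [e, h.card])).ge.trans
    inf_le_right)) fun e => ⟨e.1, (eq_of_card_le le (by rw [e.2, h.cardA])).ge⟩

theorem stab (hn : n ∈ N[S] ⊓ C[A]) (hu : u ∈ S) (h1 : u ∉ A) (h2 : n * u * n⁻¹ * u⁻¹ ∈ A) :
    n ∈ S ⊔ C[S] := by
  refine le_of_pie (K := zpowers n) (fun p hp x hx px => ?_) (mem_zpowers n)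
  have xn := zpowers_le.2 hn hx
  by_cases e : p = 2
  · exact mem_sup_left ((h.sylM (normG S)).mem_of_normal le_rfl (e ▸ px) xn.1)
  have e1 : x * u * x⁻¹ * u⁻¹ ∈ A := by
    obtain ⟨k, rfl⟩ := (mem_powers_iff_mem_zpowers).2 hx
    clear hx px xn
    induction k with
    | zero => simp
    | succ k ih =>
      convert mul_mem (conj_mem (C_le_N A hn.2) ih) h2 using 1
      simp only [pow_succ']; group
  have e2 : x ∈ C1[u] := SE.mem_of_sq_mem (odd_iff.1 (px.ne_compl e)) (mem_C1.2 (by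
    have e3 := mem_C.1 xn.2 _ e1
    have e4 := h.sqA e1
    calc x * x * u = x * (x * u * x⁻¹ * u⁻¹) * u * x := by group
      _ = x * u * x⁻¹ * u⁻¹ * (x * u * x⁻¹ * u⁻¹) * u * (x * x) := by rw [← e3]; group
      _ = _ := by rw [e4, one_mul]))
  rcases h.fixed hp e (pig_zpowers.2 px) (zpowers_le.2 xn.1) (zpowers_le.2 xn.2) with e | e
  · exact mem_sup_right (e (mem_zpowers x))
  · exact absurd (e.2 (mem_inf.2 ⟨hu, C_zpowers x ▸ C1_symm e2⟩)) h1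

theorem L_le : S ⊔ C[S] ≤ N[S] ⊓ C[A] :=
  sup_le (le_inf (normG S) h.cen) (le_inf (C_le_N S) (centS h.le))

theorem idx5 : PiN {5} ((S ⊔ C[S]).relIndex (N[S] ⊓ C[A])) := fun p hp hd => by
  obtain ⟨R, hR⟩ := syl_exists hp (N[S] ⊓ C[A])
  by_contra e
  refine hR.not_dvd hp (hd.trans (relIndex_dvd_left ?_ _))
  by_cases e2 : p = 2
  · exact ((h.sylM (normG S)).le_of_normal le_rfl (e2 ▸ hR.pi) (hR.le.trans inf_le_left)).trans
      le_sup_left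
  · exact ((h.fixed hp e2 hR.pi (hR.le.trans inf_le_left) (hR.le.trans inf_le_right)).resolve_right
      fun e' => e e'.1).trans le_sup_right

theorem not_mem (hu : u ∈ Fb S a) : u ∉ A := fun e => h.a1 (hu.2.symm.trans (h.sqA e))

theorem exists_u : ∃ u, u ∈ Fb S a := Set.nonempty_of_ncard_ne_zero (by rw [h.fib]; omega)

theorem idx_le : (S ⊔ C[S]).relIndex (N[S] ⊓ C[A]) ≤ 5 := by
  obtain ⟨u, hu⟩ := h.exists_u
  have e1 : (C1[u]).relIndex (N[S] ⊓ C[A]) ≤ 20 := by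
    rw [← ncard_orb, ← h.fib]
    refine Set.ncard_le_ncard ?_
    rintro _ ⟨k, hk, rfl⟩
    exact ⟨conj_mem hk.1 hu.1, by
      rw [show k * u * k⁻¹ * (k * u * k⁻¹) = k * (u * u) * k⁻¹ by group, hu.2,
        ← mem_C.1 hk.2 a h.aA, mul_inv_cancel_right]⟩
  have e2 : 4 ≤ (C1[u]).relIndex (S ⊔ C[S]) := by
    rw [← ncard_orb, ← h.cardA, show #A = (A : Set G).ncard from Nat.card_coe_set_eq _,
      ← Set.ncard_image_of_injective _ (mul_right_injective u)]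
    refine Set.ncard_le_ncard ?_
    rintro _ ⟨z, hz, rfl⟩
    obtain ⟨s, hs, e⟩ := h.cls u hu.1 (h.not_mem hu) z hz
    exact ⟨s, mem_sup_left hs, e⟩
  have e3 := relIndex_mul_relIndex (C1[u] ⊓ (S ⊔ C[S])) _ _ inf_le_right h.L_le
  rw [inf_relIndex_right, show C1[u] ⊓ (S ⊔ C[S]) = C1[u] ⊓ (N[S] ⊓ C[A]) from le_antisymm
    (inf_le_inf_left _ h.L_le) (le_inf inf_le_left fun n hn => h.stab hn.2 hu.1 (h.not_mem hu)
      (by rw [mem_C1.1 hn.1]; simp)), inf_relIndex_right] at e3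
  nlinarith

theorem NS_aux : ∃ V, V ≤ O'[C[A]] ∧ C[A] ≤ N[V ⊔ S] := by
  obtain ⟨Y, _, _, ψ, dom, ker, top⟩ : ∃ (Y : Type u) (_ : Group Y) (_ : Finite Y) (ψ : PHom G Y),
      ψ.dom = C[A] ∧ ψ.ker = A ∧ ψ.im C[A] = ⊤ := by
    have := normal_subgroupOf (C_le_N A)
    exact ⟨_, _, inferInstance, mquo C[A] (A.subgroupOf C[A]), rfl,
      by rw [mquo_ker, map_subgroupOf_eq_of_le h.abel], mquo_top _ _⟩
  have Sd : S ≤ ψ.dom := dom ▸ h.cen
  have kS : ψ.ker ≤ S := ker ▸ h.le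
  have hE : Syl 2 (ψ.im S) ⊤ := top ▸ (h.sylM h.cen).im dom.ge
  have ab : Abelem 2 (ψ.im S) := (abelem_im_iff Sd).2 ⟨ker ▸ h.der, fun x hx => by
    rw [ker, pow_two]; exact h.sq x hx⟩
  have o2 : ∀ u ∈ S, u ∉ A → orderOf (ψ.app u) = 2 := fun u hu hn =>
    orderOf_of_pow p2 (ab.pow _ (app_mem_im hu (Sd hu))) fun e => hn (ker ▸ mem_ker.2 ⟨Sd hu, e⟩)
  obtain ⟨u, hu⟩ := h.exists_u
  obtain ⟨v, hv⟩ := h.rot.exists_u
  obtain ⟨W, w1, w2, w3⟩ := sft_normal hE ab (by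
      have := card_im_mul (φ := ψ) Sd
      rw [inf_eq_right.2 kS, ker, h.cardA, h.card] at this
      omega)
    (fun x hx x1 => burnside p2 (hE.sub (ab.abel.trans (C_le_C1 hx)) le_top) fun m hm => by
      obtain ⟨u, hu, rfl⟩ := (mem_im' Sd).1 hx
      obtain ⟨n, hn, rfl⟩ := (mem_im' dom.ge).1 (top ▸ mem_top m)
      have nd : n ∈ ψ.dom := dom ▸ hn
      have := h.stab (mem_inf.2 ⟨norm_of_im (zpowers_le.2 nd) Sd kS (by
          rw [im_zpowers nd]; exact zpowers_le.2 hm.2) (mem_zpowers n), hn⟩) hu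
        (fun e => x1 (mem_ker.1 (ker ▸ e)).2) (ker ▸ mem_ker.2 ⟨mul_mem (mul_mem (mul_mem nd (Sd hu))
          (inv_mem nd)) (inv_mem (Sd hu)), by
            rw [app_mul (conj_mem (normG _ nd) (Sd hu)) (inv_mem (Sd hu)), app_conj nd (Sd hu),
              mem_C1.1 hm.1, app_inv (Sd hu)]; simp⟩)
      have := app_mem_im this nd
      rw [im_sup Sd ((centS h.le).trans dom.ge)] at this
      exact sup_le ab.abel (im_cent le_rfl) this)
    (o2 u hu.1 (h.not_mem hu)) (o2 v hv.1 (h.rot.not_mem hv)) fun e => by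
      obtain ⟨m, e⟩ := isConj_iff.1 e
      obtain ⟨n, hn, rfl⟩ := (mem_im' dom.ge).1 (top ▸ mem_top m)
      have nd : n ∈ ψ.dom := dom ▸ hn
      rw [← app_conj nd (Sd hu.1), eq_comm, app_eq_iff (Sd hv.1) (conj_mem (normG _ nd) (Sd hu.1)),
        ker] at e
      have := h.sq_mul hv.1 e
      rw [mul_inv_cancel_left, show n * u * n⁻¹ * (n * u * n⁻¹) = n * (u * u) * n⁻¹ by group, hu.2,
        hv.2, ← mem_C.1 hn a h.aA, mul_inv_cancel_right] at this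
      exact h.ab this
  have AW : A ≤ ψ.pre W := ker ▸ ker_le_pre W
  have WC : ψ.pre W ≤ C[A] := dom ▸ pre_le_dom W
  have sA : Syl 2 A (ψ.pre W) := ⟨AW, h.pigA, by
    rw [← ker, ← card_im (pre_le_dom W)]; exact w1.of_le (im_pre_le W)⟩
  have nW : C[A] ≤ N[ψ.pre W] := norm_pre dom.ge (le_top.trans w2)
  refine ⟨O'[ψ.pre W], O_le_of_normal _ WC nW, ?_⟩
  have := norm_pre (φ := ψ) dom.ge (le_top.trans w3)
  rwa [pre_sup (dom ▸ top ▸ le_top) (im_le_dom _), pre_im_of_le Sd kS,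
    ← ((burnside p2 sA (inf_le_left.trans WC)).sdprod sA).sup, sup_assoc,
    sup_eq_right.2 h.le] at this

theorem nS : C[A] ≤ N[O'[C[A]] ⊔ S] := by
  obtain ⟨V, h1, h2⟩ := h.NS_aux
  have := normY (O_norm {2}ᶜ C[A]) h2
  rwa [← sup_assoc, sup_eq_left.2 h1] at this

theorem le_Th (h1 : W ≤ C[A]) (ho : PiG {2}ᶜ W) (h2 : S ≤ N[W]) : W ≤ O'[C[A]] := by
  obtain ⟨Y, _, _, φ, q⟩ := exists_QO C[A]
  have n : ⊤ ≤ N[φ.im S] := by
    have := q.nrm h.nS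
    rwa [sup_comm, ← q.ker, im_sup_ker (q.le h.cen)] at this
  have hS : Syl 2 (φ.im S) ⊤ := q.top ▸ (h.sylM h.cen).im (q.le le_rfl)
  have e := (burnside p2 (hS.inf_norm' le_top (normC n))
    (inf_le_left.trans (cent_symm (inf_le_left.trans (le_CC _))))).le_O
      ((ho.im φ).cent hS.pi.compl_compl (le_top.trans n) (im_norm h2)) (ho.im φ)
  exact (q.bot h1).1 (eq_bot_iff.2 (q.O_bot ▸ e.trans (O_le_of_normal _ le_top (normC n))))

theorem CS_le : C[S] ≤ O'[C[A]] ⊔ S := by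
  have s := (h.sylM (normG S)).inf_norm' (C_le_N S) (normC le_rfl)
  exact ((burnside p2 s (inf_le_left.trans (centS inf_le_left))).sdprod s).sup.ge.trans
    (sup_le_sup (h.le_Th ((O_le _ _).trans (centS h.le)) (O_pig _ _) (normO _ (normC (normG S))))
      inf_le_left)

theorem frat : IsProd (O'[C[A]] ⊔ S) (N[S] ⊓ C[A]) C[A] := by
  have := Syl.frattini (h.sylM le_sup_right) p2 (sup_le (O_le _ _) h.cen) h.nS
  rwa [inf_comm] at this

theorem zC : IsProd C[A] O'[C1[a]] C1[a] := h.zstC h.aA h.a1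

theorem Th_le : O'[C[A]] ≤ O'[C1[a]] := le_sup_left.trans (le_O
  (sup_le ((O_le _ _).trans (C_le_C1 h.aA)) (O_le _ _))
  (h.zC.sup.ge.trans (sup_le (normY (O_norm _ _) ((C_le_C1 h.aA).trans (O_norm _ _)))
    (le_sup_right.trans (normG _))))
  ((O_pig _ _).sup_r (O_pig _ _) (((O_le _ _).trans (C_le_C1 h.aA)).trans (O_norm _ _))))

end LC

end Cfsg.Agent.Gs
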