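import Cfsg.Agent.Gs.Min
import Cfsg.Agent.SE.Fin
import Cfsg.Agent.Class.Dick3

/-! Lyons' theorem: identification with PSU(3, 4). -/

set_option autoImplicit false
set_option linter.unusedVariables false
set_option linter.unusedSectionVars false

namespace Cfsg.Agent.Gs

open Cfsg Cfsg.Agent.BG Cfsg.Agent.Dih Cfsg.Agent.GW Subgroup PHom
open Cfsg.Agent.Comp (Lay FStar SubIn Lay_le Lay_normal Lay_perfect)
open Cfsg.Agent.H8 (N_coatom')
open Cfsg.Agent.Inv (ord2_iff sq_of_ord2 ne_one_of_ord2 inv_of_ord2 orderOf_conj' orderOf_conj''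
  kf_sq kf_ord kf_comm kf_cases kf_exists_ne kf_of_card kf_mem_centralizer kf_sq_mem_centralizer)
open scoped commutatorElement

universe u

variable {G : Type u} [Group G] [Finite G]
  {A B E H K L M P Q R S T W X Z : Subgroup G} {a b g n s t u v x y z : G} {p q : ℕ}


theorem psl4 {F : Type*} [Field F] [CharP F 2] (x : Matrix.ProjectiveSpecialLinearGroup (Fin 2) F)
    (h : x * x * (x * x) = 1) : x * x = 1 := by
  induction x using QuotientGroup.induction_on with | H M =>
  rw [← QuotientGroup.mk_mul, ← QuotientGroup.mk_mul, QuotientGroup.eq_one_iff] at h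
  rw [← QuotientGroup.mk_mul, QuotientGroup.eq_one_iff]
  obtain ⟨r, -, e⟩ := Matrix.SpecialLinearGroup.mem_center_iff.1 h
  have h2 : (2 : F) = 0 := CharTwo.two_eq_zero
  have hd := M.det_coe
  have e0 := congrFun₂ e 0 0
  have e1 := congrFun₂ e 1 1
  simp only [Matrix.det_fin_two, Matrix.SpecialLinearGroup.coe_mul, Matrix.mul_apply, Fin.sum_univ_two,
    Matrix.scalar_apply, Matrix.diagonal_apply_eq] at hd e0 e1
  have t : M.1 0 0 + M.1 1 1 = 0 := pow_eq_zero_iff (n := 4) (by norm_num) |>.1 (by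
    linear_combination e1 - e0 + ((M.1 0 0 + M.1 1 1) ^ 3 * M.1 1 1 +
      (M.1 0 0 * M.1 1 1 - M.1 0 1 * M.1 1 0) * (M.1 0 0 + M.1 1 1) * (M.1 0 0 - M.1 1 1)) * h2)
  refine Matrix.SpecialLinearGroup.mem_center_iff.2 ⟨-1, by simp, ?_⟩
  ext i j
  fin_cases i <;> fin_cases j <;> simp [Matrix.mul_apply, Fin.sum_univ_two]
  · linear_combination hd - M.1 0 0 * t
  · linear_combination - M.1 0 1 * t
  · linear_combination - M.1 1 0 * t
  · linear_combination hd - M.1 1 1 * t

/-- field change for the special unitary group -/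
def suMap {F F' : Type*} [Field F] [Field F'] (e : F ≃+* F') (m q : ℕ) : SU m F q →* SU m F' q :=
  ((Matrix.SpecialLinearGroup.map e.toRingHom).comp (SU m F q).subtype).codRestrict _ fun k u v => by
    have k1 : ∀ w : Fin m → F', (k.1.1.map e.toRingHom).mulVec w =
        fun i => e (k.1.1.mulVec (e.symm ∘ w) i) := fun w => by
      ext i; simp [Matrix.mulVec, dotProduct]
    have := congrArg e (k.2 (e.symm ∘ u) (e.symm ∘ v))
    change hermForm m F' q ((k.1.1.map e.toRingHom).mulVec u) ((k.1.1.map e.toRingHom).mulVec v) = _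
    rw [k1, k1]
    simpa [hermForm, slToMat] using this

/-- field change for the special unitary group -/
def suCongr {F F' : Type*} [Field F] [Field F'] (e : F ≃+* F') (m q : ℕ) : SU m F q ≃* SU m F' q :=
  MonoidHom.toMulEquiv (suMap e m q) (suMap e.symm m q)
    (by ext; simp [suMap]) (by ext; simp [suMap])

theorem s0486 [IsSimpleGroup G] {F : Type*} [Field F] [Fintype F] (hF : Fintype.card F = 16)
    (S : Sylow 2 G) (P : Sylow 2 (PSU 3 F 4))
    (hS : Nonempty ((S : Subgroup G) ≃* (P : Subgroup (PSU 3 F 4)))) : Nonempty (G ≃* PSU 3 F 4) := by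
  obtain ⟨e⟩ := hS
  have h := exists_UT hF P (syl_top p2 S) e
  generalize Z[(S : Subgroup G)] = A at h
  have na : ∀ X : Subgroup G, X ≠ ⊥ → ⊤ ≤ N[X] → X = ⊤ := fun X h1 h2 =>
    (IsSimpleGroup.eq_bot_or_eq_top_of_normal X (normal_iff.2 h2)).resolve_left h1
  have hO : O'[(⊤ : Subgroup G)] = ⊥ := by_contra fun c => h.neS
    (h.pig.eq_bot ((O_pig {2}ᶜ ⊤).of_le (le_top.trans (na _ c (O_norm _ _)).ge)))
  have nA : N[A] ≠ ⊤ := fun c => by
    have := card_le (le_top.trans (na A h.neA c.ge).ge : (S : Subgroup G) ≤ A)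
    rw [h.card, h.cardA] at this; omega
  have T := T0 _ G rfl _ A h hO
  obtain ⟨a, ha, a1⟩ := exists_mem_ne_one h.neA
  obtain ⟨m, hm, hc⟩ : ∃ m ∈ N[A], m ∉ C[A] := by
    by_contra! c
    have := (h.zst le_top fun m hm => c m hm.2).sup
    rw [hO, sup_bot_eq] at this
    exact nA (eq_top_iff.2 (this.ge.trans (inf_le_right.trans (C_le_N _))))
  obtain ⟨b, g, l⟩ := h.exists_LC ha a1 hm hc
  rcases SE.s0222 (h.se nA h.NS fun x hx x1 => (T x hx x1).trans (C_le_N _)) with
    ⟨K, _, _, _, -, ⟨f⟩⟩ | ⟨-, n, -, hn⟩ | ⟨K, _, _, q, hK, ev, h4, ⟨f⟩⟩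
  · obtain ⟨u, hu⟩ := l.exists_u
    have := psl4 (f u) (by rw [← map_mul, ← map_mul, hu.2, h.sqA ha, map_one])
    rw [← map_mul, hu.2, MulEquiv.map_eq_one_iff] at this
    exact absurd this a1
  · obtain ⟨r, -, pr, nr⟩ := l.three
    have := (pr.dvd fun e => nr (e ▸ one_mem _)).trans (orderOf_dvd_natCard r)
    have e1 : 2 ^ (2 * n + 1) % 3 = 2 := by rw [pow_succ, pow_mul, Nat.mul_mod, Nat.pow_mod]; simp
    rw [hn] at this
    generalize 2 ^ (2 * n + 1) = q at this e1
    obtain ⟨k, rfl⟩ : ∃ k, q = 3 * k + 2 := ⟨q / 3, by omega⟩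
    rcases (Nat.Prime.dvd_mul Nat.prime_three).1 this with e | e
    · rcases (Nat.Prime.dvd_mul Nat.prime_three).1 e with e | e <;> ring_nf at e <;> omega
    · omega
  · obtain ⟨p, -, k, hp, hk⟩ := FiniteField.card' K
    obtain rfl : 2 = p := (Nat.prime_dvd_prime_iff_eq p2 hp).1 (p2.dvd_of_dvd_pow
      (hk ▸ hK ▸ ev.two_dvd.trans (dvd_pow_self q two_ne_zero)))
    obtain ⟨n, -, rfl⟩ := (Nat.dvd_prime_pow p2).1 (hk ▸ hK ▸ dvd_pow_self q two_ne_zero)
    have : Finite (PSU 3 K (2 ^ n)) := Finite.of_equiv _ f.toEquiv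
    have e1 := (s1141 ((Nat.pow_le_pow_iff_right one_lt_two).1 (show 2 ^ 2 ≤ _ from h4)) hK
      (S.mapSurjective (f := f.toMonoidHom) f.surjective)).1
    replace e1 := (card_map_of_injective (f := f.toMonoidHom) f.injective).symm.trans e1
    rw [h.card, ← pow_mul] at e1
    have : n * 3 = 6 := Nat.pow_right_injective le_rfl e1.symm
    obtain rfl : n = 2 := by omega
    exact ⟨f.trans (Class.quotCenterCongr (suCongr (FiniteField.ringEquivOfCardEq (hK.trans hF.symm)) 3 4))⟩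

end Cfsg.Agent.Gs
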