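import Cfsg.Agent.Gs.Loc
import Cfsg.Agent.S0949

/-! Reduction to a simple group; the proper subgroups containing `S`. -/

set_option autoImplicit false
set_option linter.unusedVariables false
set_option linter.unusedSectionVars false

namespace Cfsg.Agent.Gs

open Cfsg Cfsg.Agent.BG Cfsg.Agent.Dih Cfsg.Agent.GW Subgroup PHom
open Cfsg.Agent.Inv (ord2_iff sq_of_ord2 ne_one_of_ord2 inv_of_ord2 orderOf_conj' orderOf_conj''
  kf_sq kf_ord kf_comm kf_cases kf_exists_ne kf_of_card kf_mem_centralizer kf_sq_mem_centralizer)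
open scoped commutatorElement

universe u

variable {G : Type u} [Group G] [Finite G] {Y : Type u} [Group Y] [Finite Y] {φ : PHom G Y}
  {A B E K L M P Q R S T W X : Subgroup G} {a b g n s u v x y z : G} {r : ℕ}

/-- the inductive hypothesis -/
def IHU (G : Type u) : Prop :=
  ∀ (Y : Type u) [Group Y] [Finite Y], Nat.card Y < Nat.card G → ∀ S A : Subgroup Y, UT S A →
    O'[(⊤ : Subgroup Y)] = ⊥ → ∀ x ∈ A, x ≠ 1 → C1[x] ≤ C[A]

theorem UT.imQ (h : UT S A) (q : QO M φ) (hS : S ≤ M) : UT (φ.im S) (φ.im A) :=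
  h.im (q.le hS) q.odd (q.dom.symm ▸ q.top)

theorem UT.ih (h : UT S A) (ih : IHU G) (q : QO M φ) (hM : M ≠ ⊤) (hS : S ≤ M) :
    ∀ x ∈ φ.im A, x ≠ 1 → C1[x] ≤ C[φ.im A] :=
  ih Y (by
    rw [← card_top, ← card_top (G := G), ← q.top]
    exact (Nat.le_of_dvd (card_pos M) (card_im_dvd M)).trans_lt (card_lt hM.lt_top))
    _ _ (h.imQ q hS) q.O_bot

theorem UT.exists_LC (h : UT S A) (ha : a ∈ A) (a1 : a ≠ 1) (hn : n ∈ N[A]) (hc : n ∉ C[A]) :
    ∃ b g, LC S A a b g := by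
  obtain ⟨c, hc', g, hg, rfl⟩ := (Syl.frattini (h.sylM h.cen) p2 (C_le_N A) (normC le_rfl)).ex n hn
  have ne : ∀ x ∈ A, x ≠ 1 → g * x * g⁻¹ ≠ x := fun x hx x1 e =>
    hc (mul_mem hc' (h.cent_of_fix hg.1 hx x1 (mem_C1.2 (mul_inv_eq_iff_eq_mul.1 e))))
  have hb := conj_mem hg.1 ha
  have b1 : g * a * g⁻¹ ≠ 1 := by simpa using a1
  refine ⟨_, g, h, ha, a1, hg.2, rfl, ?_⟩
  rcases kf_cases h.kf ha hb a1 b1 (ne a ha a1).symm (conj_mem hg.1 hb) with e | e | e | e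
  · exact absurd (by simpa using e) a1
  · refine absurd ?_ (ne _ (mul_mem ha hb) fun e => ne a ha a1 ?_)
    · rw [show g * (a * (g * a * g⁻¹)) * g⁻¹ = g * a * g⁻¹ * (g * (g * a * g⁻¹) * g⁻¹) by group, e,
        kf_comm h.kf hb ha]
    · rw [← inv_eq_of_mul_eq_one_right e, h.invA ha]
  · exact absurd e (ne _ hb b1)
  · exact e

theorem UT.not_norm (h : UT S A) (ha : a ∈ A) (a1 : a ≠ 1) (nc : ¬ C1[a] ≤ C[A]) (h1 : A ≤ T)
    (h2 : T ≤ N[A]) : ¬ C1[a] ≤ N[T] := fun e => nc fun n hn => h.cent_of_fix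
  (mem_N_of fun x hx => h.inv_N (h2 (conj_mem (e hn) (h1 hx))) (by
    rw [show n * x * n⁻¹ * (n * x * n⁻¹) = n * (x * x) * n⁻¹ by group, h.sqA hx]; simp)) ha a1 hn

theorem LC.simple (h : LC S A a b g) (ih : IHU G) (hO : O'[(⊤ : Subgroup G)] = ⊥)
    (nc : ¬ C1[a] ≤ C[A]) : IsSimpleGroup G := by
  have : Nontrivial G := ⟨⟨a, 1, h.a1⟩⟩
  refine ⟨fun L hL => or_iff_not_imp_left.2 fun L0 => by_contra fun L1 => ?_⟩
  have n : ∀ X : Subgroup G, X ≤ N[L] := norm_of_normal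
  have O0 : O'[L] = ⊥ := eq_bot_iff.2 (hO ▸ O_le_of_normal _ le_top (n _))
  have hT : Syl 2 (S ⊓ L) L := h.syl.inf_norm' le_top (n _)
  have AL : A ≤ L := by
    obtain ⟨x, hx, x2⟩ := cauchy p2 (hT.dvd p2 rfl (by_contra fun e =>
      L0 ((O_eq_self ((pin_compl p2).2 e)).symm.trans O0)))
    obtain ⟨k, -, e⟩ := h.exists_conj (h.inv x hx.1 (sq_of_ord2 x2)) (ne_one_of_ord2 x2)
    have ha : a ∈ L := by simpa [← e, mul_assoc] using conj_mem' (n _ (mem_top k)) hx.2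
    intro y hy
    by_cases y1 : y = 1
    · exact y1 ▸ one_mem _
    obtain ⟨k, -, rfl⟩ := h.exists_conj hy y1
    exact conj_mem (n _ (mem_top k)) ha
  have AT : A ≤ S ⊓ L := le_inf h.le AL
  have key : ¬ L ≤ N[S ⊓ L] := fun e => h.not_norm h.aA h.a1 nc AT (inf_le_left.trans h.SN)
    (by rw [hT.eq_O e]; exact normO _ (n _))
  have := Fintype.ofFinite (GaloisField 2 4)
  have hF : Fintype.card (GaloisField 2 4) = 16 := by
    rw [← Nat.card_eq_fintype_card, GaloisField.card 2 4 (by norm_num)]; norm_num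
  have := Fact.mk p2
  obtain ⟨P⟩ : Nonempty (Sylow 2 (PSU 3 (GaloisField 2 4) 4)) := inferInstance
  rcases rank2_sub (hT.pi.pg p2) h.kf AT (fun x hx => h.inv x hx.1) (h := g)
    (zpowers_le.1 (normI (zpowers_le.2 h.gN) (n _))) (fun v hv v1 e => h.ab (by
      rw [← h.g1, ← mem_C.1 (h.cent_of_fix h.gA hv v1 (mem_C1.2 (mul_inv_eq_iff_eq_mul.1 e))) a h.aA,
        mul_inv_cancel_right])) hF P with ⟨m, hm, ⟨e⟩⟩ | ⟨⟨e⟩⟩
  · rcases hm.eq_or_lt with rfl | hm
    · have TA : A = S ⊓ L := eq_of_card_le AT (by rw [Nat.card_congr e.toEquiv, h.cardA]; simp)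
      by_cases c : (L ⊔ S) ⊓ N[A] ≤ C[A]
      · have := (h.zst (h.le.trans le_sup_right) c).sup
        rw [show O'[L ⊔ S] = ⊥ from eq_bot_iff.2 (O0 ▸ le_O ((O_pig {2}ᶜ _).le_of_idx (n _) (O_le _ _)
          (by rw [relIndex_sup_l (n _)]; exact (h.pig.relIndex _).compl_compl))
          (le_sup_left.trans (O_norm _ _)) (O_pig _ _)), sup_bot_eq] at this
        exact key (TA ▸ cents_norm (le_sup_left.trans (this.ge.trans inf_le_right)))
      obtain ⟨k, hk, hc⟩ := SetLike.not_le_iff_exists.1 c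
      obtain ⟨k', hk', e⟩ := h.fus le_sup_right h.aA hk.1 (conj_mem hk.2 h.aA)
      obtain ⟨l, hl, s, hs, rfl⟩ := (mem_sup_l (n _)).1 hk'.1
      have lS : l ∈ N[S] := by simpa using N[S].mul_mem hk'.2 (inv_mem (normG S hs))
      obtain ⟨u, hu⟩ := h.exists_u
      have e2 := h.sq_mul hu.1 (z := u⁻¹ * (l * u * l⁻¹)) (TA ▸ mem_inf.2
        ⟨mul_mem (inv_mem hu.1) (conj_mem lS hu.1), by
          simpa [mul_assoc] using mul_mem (conj_mem' (n _ (mem_top u)) hl) (inv_mem hl)⟩)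
      rw [mul_inv_cancel_left, show l * u * l⁻¹ * (l * u * l⁻¹) = l * (u * u) * l⁻¹ by group,
        hu.2] at e2
      rw [show l * s * a * (l * s)⁻¹ = l * (s * a * s⁻¹) * l⁻¹ by group, h.conj hs h.aA, e2] at e
      exact hc (h.cent_of_fix hk.2 h.aA h.a1 (mem_C1.2 (mul_inv_eq_iff_eq_mul.1 e.symm)))
    · obtain ⟨Q, hQ⟩ := hT.exists_sylow p2
      have := (S0949.result Q m hm (((Q : Subgroup L).equivMapOfInjective _ L.subtype_injective).trans
        ((MulEquiv.subgroupCongr hQ).trans e)) fun K hK ho => (map_eq_bot_iff_of_injective _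
          L.subtype_injective).1 (eq_bot_iff.2 (O0 ▸ le_O (map_subtype_le K) (by
            have := norm_map (normal_iff.1 hK) L.subtype
            rwa [map_subtype_top] at this) (PiG.map (odd_iff.2 ho) _)))).1
      have := norm_map (normal_iff.1 this) L.subtype
      rw [map_subtype_top, hQ] at this
      exact key this
  · have SL : S ≤ L := (eq_of_card_le inf_le_left
      (by rw [(psu34_facts hF P e).1, h.card])).ge.trans inf_le_right
    obtain ⟨Y, _, _, φ, q⟩ := exists_QO L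
    have := h.ih ih q L1 SL _ (app_mem_im h.aA (q.mem (AL h.aA))) (ne_one_of_ord2 (q.ord h.oa (AL h.aA)))
    rw [← q.C2 h.oa (AL h.aA), cent_im_iff (q.le inf_le_left) (q.le AL), q.ker, O0, le_bot_iff,
      comm_eq_bot] at this
    exact h.not_norm h.aA h.a1 nc (le_inf AL (h.le.trans (h.SC h.aA))) (cents_norm this)
      (normI (n _) (normG _))

/-- a minimal counterexample -/
structure MC (S A : Subgroup G) (a b g : G) : Prop extends LC S A a b g where
  simple : IsSimpleGroup G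
  ih : IHU G
  nc : ¬ C1[a] ≤ C[A]

theorem LC.cjA (h : LC S A a b g) : BG.cj g A = A := cj_of_mem_N h.gA
theorem LC.cjC (h : LC S A a b g) : BG.cj g C1[a] = C1[b] := by rw [cj_C1, h.g1]

theorem LC.C_le (h : LC S A a b g) (hM : M ≠ ⊤) [IsSimpleGroup G] (h1 : C1[a] ≤ M) (hg : g ∈ M) :
    IsStronglyEmbedded M := by
  have k : ∀ x ∈ A, x ≠ 1 → ∃ n ∈ M, n * a * n⁻¹ = x := fun x hx x1 => by
    rcases h.memA hx with rfl | rfl | rfl | rfl
    exacts [absurd rfl x1, ⟨1, one_mem _, by simp⟩, ⟨g, hg, h.g1⟩, ⟨_, inv_mem hg, h.symm.g1⟩]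
  refine h.se hM (fun n hn => ?_) fun x hx x1 => ?_
  · obtain ⟨m, hm, e⟩ := k _ (conj_mem (h.NS hn) h.aA) (by simpa using h.a1)
    have : m⁻¹ * n ∈ M := h1 (mem_C1.2 (by
      rw [← mul_inv_eq_iff_eq_mul, show m⁻¹ * n * a * (m⁻¹ * n)⁻¹ = m⁻¹ * (n * a * n⁻¹) * m by group,
        ← e]; group))
    exact (mul_mem_cancel_left (inv_mem hm)).1 this
  · obtain ⟨m, hm, rfl⟩ := k x hx x1
    rw [← cj_C1]; exact cj_le_of_mem h1 (normG M hm)

namespace MC

variable (h : MC S A a b g)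
include h

theorem rot : MC S A b (a * b) g := ⟨h.toLC.rot, h.simple, h.ih, by
  rw [← h.cjC, ← h.cjA, ← cj_C]; exact fun e => h.nc ((map_le_map_iff_of_injective (cj_inj g)).1 e)⟩
theorem symm : MC S A a (a * b) g⁻¹ := ⟨h.toLC.symm, h.simple, h.ih, h.nc⟩

theorem ncomm : ¬ IsMulCommutative G := fun e =>
  h.nc fun x _ => mem_C.2 fun y _ => e.is_comm.comm y x

theorem noH (hM : M ≠ ⊤) (h1 : C1[a] ≤ M) : g ∉ M := fun hg => by
  have := h.simple
  obtain ⟨-, P, e⟩ := SE.s1792 (h.C_le hM h1 hg)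
  have hP : Syl 2 (P : Subgroup G) M := (syl_top p2 P).sub (e ▸ normG _) le_top
  have hS := (h.SC h.aA).trans h1
  have : S = P := (h.sylM hS).eq_of_le hP (hP.le_of_normal e.le h.pig hS)
  exact h.not_norm h.aA h.a1 h.nc h.le h.SN (this ▸ h1.trans e.le)

theorem N_ne (h1 : X ≠ ⊥) (h2 : PiG {2}ᶜ X) : N[X] ≠ ⊤ := fun e => by
  have := h.simple
  rcases (normal_iff.2 e.ge).eq_bot_or_eq_top with e | e
  · exact h1 e
  · exact h.a1 ((pie2 h.oa).eq_one (h2.elt (e ▸ mem_top a)))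

theorem th (hM : M ≠ ⊤) (hS : S ≤ M) (h1 : W ≤ M) (ho : PiG {2}ᶜ W) (hn : S ≤ N[W]) :
    W ≤ O'[M] := by
  obtain ⟨Y, _, _, φ, q⟩ := exists_QO M
  have h' := h.imQ q hS
  have c := h.toUT.ih h.ih q hM hS
  have AM := h.le.trans hS
  have O1 : O'[N[φ.im A]] = ⊥ := by
    by_cases e : N[φ.im A] = ⊤
    · rw [e, q.O_bot]
    have := SE.s1221 (h'.se e h'.NS fun x hx x1 => cents_norm (c x hx x1))
    rwa [oddCore, oddCore, pPrimeCore_map p2, pPrimeCore_eq p2, q.O_bot, le_bot_iff] at this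
  have O2 : O'[C[A]] ⊓ M ≤ O'[M] := by
    rw [← q.bot inf_le_right, eq_bot_iff, ← O1]
    refine le_trans (le_O (im_cent (inf_le_left.trans (O_le _ _))) ?_
      (((O_pig _ _).of_le inf_le_left).im φ)) (O_le_of_normal _ (C_le_N _) (normC le_rfl))
    have := im_IC' (q.le AM) (q.le le_rfl) q.kle (h.copA q.odd) (Or.inl h.pigA.sol)
    rw [q.top, top_inf_eq] at this
    rw [← this]
    exact im_norm (normI (inf_le_right.trans (O_norm _ _)) (normsG inf_le_left))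
  have e : ⁅W ⊔ O'[M], A⁆ ≤ O'[M] := by
    rw [← q.ker, ← cent_im_iff (q.le (sup_le h1 q.kle)) (q.le AM), im_sup_ker (q.le h1)]
    exact cop_gen_cent1 h'.abel h'.ncyc (im_norm (h.le.trans hn)) (h'.copA (ho.im φ))
      fun x hx x1 => inf_le_right.trans (c x hx x1)
  have nO := hS.trans (O_norm {2}ᶜ M)
  have o : PiG {2}ᶜ (W ⊔ O'[M]) := ho.sup_r (O_pig _ _) (h1.trans (O_norm _ _))
  exact le_sup_left.trans ((cop_prod_of_comm_le (h.le.trans nO) (h.copA (O_pig _ _))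
    (Or.inl h.pigA.sol) le_sup_right e).sup.ge.trans (sup_le ((le_inf (h.le_Th inf_le_right
      (o.of_le inf_le_left) (normI (normY hn nO) (normC h.SN)))
      (inf_le_left.trans (sup_le h1 (O_le _ _)))).trans O2) le_rfl))

theorem solC : Sol C[A] := by
  have n := h.nS
  refine sol_of_im (φ := quo (O'[C[A]] ⊔ S)) n ?_ (sol_odd ((pig_im_iff n).2 ?_))
  · rw [quo_ker]
    exact ((sol_odd (O_pig _ _)).sup_l h.pig.sol (h.cen.trans (O_norm _ _))).of_le inf_le_right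
  · rw [quo_ker]
    exact (h.sylM h.cen).idx.of_dvd (relIndex_dvd_left le_sup_right _)

end MC

end Cfsg.Agent.Gs
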