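import Cfsg.Agent.Gs.Ben

/-! The structure of `C(a)`. -/

set_option autoImplicit false
set_option linter.unusedVariables false
set_option linter.unusedSectionVars false

namespace Cfsg.Agent.Gs

open Cfsg Cfsg.Agent.BG Cfsg.Agent.Dih Cfsg.Agent.GW Subgroup PHom
open Cfsg.Agent.Comp (Lay FStar SubIn Lay_le Lay_normal Lay_perfect)
open Cfsg.Agent.H8 (N_coatom')
open Cfsg.Agent.Inv (ord2_iff sq_of_ord2 ne_one_of_ord2 inv_of_ord2 orderOf_conj' orderOf_conj''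
  kf_sq kf_ord kf_comm kf_cases kf_exists_ne kf_of_card kf_mem_centralizer kf_sq_mem_centralizer)
open scoped commutatorElement

universe u

variable {G : Type u} [Group G] [Finite G]
  {A B E H K L M P Q R S T W X Z : Subgroup G} {a b g n s t u v x y z : G} {p q : ℕ}

/-- `K = [O(C(a)), b]` -/
abbrev KK (a b : G) : Subgroup G := ⁅O'[C1[a]], zpowers b⁆

theorem cent2' (ht : orderOf t = 2) (h : ⁅X, zpowers t⁆ ≤ B) (hB : PiG {2}ᶜ B) (h2 : B ≤ C1[t]) :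
    X ≤ C1[t] := C_zpowers t ▸ cop_stable (cop2 ht hB) h (C_zpowers t ▸ h2)

namespace MC

variable (h : MC S A a b g)
include h

theorem lay : Lay C1[a] = ⊥ := h.layH h.max le_rfl

theorem cardF : #F[C1[b]] = #F[C1[a]] := by rw [← h.cjC, ← cj_F, card_cj]

theorem N_eq (h1 : X ≤ C1[a]) (h2 : C1[a] ≤ N[X]) (h3 : X ≠ ⊥) : N[X] = C1[a] :=
  have := h.simple
  N_coatom' h.max h1 h2 h3

theorem cent_Y (ho : PiG {2}ᶜ W) (ha : a ∈ N[W]) (r : Arr C1[a] N[W])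
    (hD : ∀ q, q.Prime → ¬ q ∣ #F[C1[a]] → Iv a O[{q}](W) → O[{q}](W) = ⊥) : W ≤ C1[a] := by
  rw [← C_zpowers]
  refine cent_symm (cop_cent_F (zpowers_le.2 ha) (cop2 h.oa ho) (sol_odd ho) (cent_symm ?_))
  refine F_le_of_O fun q hq => ?_
  have oQ := ho.of_le (O_le {q} W)
  have aQ := normO {q} (zpowers_le.2 ha)
  by_cases c : q ∣ #F[C1[a]]
  · set P := O[{q}](F[C1[a]]) ⊓ C[F[C1[a]]]
    have PH : P ≤ C1[a] := inf_le_left.trans ((O_le _ _).trans (F_le _))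
    have nP : P ≤ N[O[{q}](W)] := normO _ ((inf_le_inf_right _ (O_le _ _)).trans r.Z_le)
    refine cent_symm (pq_lemma ((O_pig _ _).sup_l ((O_pig _ _).of_le inf_le_left) nP).nil
      le_sup_right le_sup_left (PH.trans_eq (C_zpowers a).symm) (cop2 h.oa oQ) nP aQ (inf_le_right.trans ?_))
    exact (C_le_N _).trans_eq ((h.N_eq PH (normI (normO _ (F_norm _)) (normC (F_norm _)))
      ((F_nil _).meet_C (O_le _ _) (O_norm _ _) ((F_nil _).O_ne_bot hq c rfl))).trans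
      (C_zpowers a).symm)
  · have r' : Arr C1[a] N[O[{q}](W)] := by
      obtain ⟨S, s1, s2, s3⟩ := r.ex
      exact ⟨r.max, r.lay, S, s1, s2, s3.trans (normO _ le_rfl)⟩
    rw [hD q hq c (iv_of_fpf h.oa oQ (aQ (mem_zpowers a)) (eq_bot_iff.2 (r'.one hq c ▸
      inf_le_inf_right _ (le_O (normG _) le_rfl (O_pig _ _)))))]
    exact bot_le

theorem gen_bot (ho : PiG {2}ᶜ Q) (hn : A ≤ N[Q]) (iv : Iv a Q) (h1 : Q ⊓ C1[b] = ⊥)
    (h2 : Q ⊓ C1[a * b] = ⊥) : Q = ⊥ :=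
  eq_bot_iff.2 (cop_gen_cent1 h.abel h.ncyc hn (h.copA ho) fun x hx x1 => by
    rcases h.memA hx with rfl | rfl | rfl | rfl
    exacts [absurd rfl x1, (iv.inf_bot ho).le, h1.le, h2.le])

theorem Db (hq : q.Prime) (pQ : PiG {q} Q) (ho : PiG {2}ᶜ Q) (c : ¬ q ∣ #F[C1[a]]) (iv : Iv a Q)
    (hn : C[A] ≤ N[Q]) : Q ⊓ C1[b] = ⊥ := by
  have pF : PiG {q}ᶜ F[C1[b]] := (pin_compl hq).2 (h.cardF ▸ c)
  have pD := pQ.of_le (inf_le_left : Q ⊓ C1[b] ≤ _)
  have oD := ho.of_le (inf_le_left : Q ⊓ C1[b] ≤ _)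
  have nD : C[A] ≤ N[Q ⊓ C1[b]] := normI hn (normsG (C_le_C1 h.bA))
  have nK : C1[b] ≤ N[O'[F[C1[b]]]] := normO _ (F_norm _)
  have := lemW h.oa ((F_nil _).of_le (O_le _ _)) (O_pig _ _) (inf_le_right.trans nK)
    (nK (h.SC h.bA (h.le h.aA))) (nD (h.abel h.aA)) (pD.coprime (pF.of_le (O_le _ _)))
    ((iv.of_le inf_le_left).le_comm oD) (cent_of_inf inf_le_left (inf_le_right.trans nK)
      (le_trans (h.CA ▸ le_inf inf_le_right (inf_le_left.trans ((O_le _ _).trans (F_le _)))) nD)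
      ((pF.of_le (O_le _ _)).inf_bot' pD))
  refine pD.eq_bot (pF.of_le ((le_inf inf_le_right ?_).trans (C_F_le' h.rot.lay)))
  rw [← ((F_nil _).dprod_O {2}).sup, O_F]
  exact centY ((h.th h.rot.max.1 (h.SC h.bA) inf_le_right oD (h.cen.trans nD)).trans
    (O_cent_O' _ _)) this

theorem dich (p2 : p ≠ 2) : O[{p}](C1[a]) ≤ C1[b] ∨ O[{p}](C1[a]) ⊓ C1[b] = ⊥ := by
  refine or_iff_not_imp_right.2 fun X0 => ?_
  set X := O[{p}](C1[a]) ⊓ C1[b]
  have pX : PiG {p} X := (O_pig _ _).of_le inf_le_left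
  have nX : C[A] ≤ N[X] := normI ((C_le_C1 h.aA).trans (O_norm _ _)) (normsG (C_le_C1 h.bA))
  have SX := h.cen.trans nX
  have e := h.cent_Y (O_pig {2}ᶜ N[X]) (O_norm _ _ (SX (h.le h.aA)))
    (arr_of h.max h.lay (inf_le_left.trans (O_le_F _ _)) (inf_le_right.trans (O_norm _ _)))
    fun q hq c iv => by
      have o := (O_pig {2}ᶜ N[X]).of_le (O_le {q} _)
      have n := normO {q} (nX.trans (O_norm {2}ᶜ _))
      exact h.gen_bot o (h.abel.trans n) iv (h.Db hq (O_pig _ _) o c iv n)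
        (h.symm.Db hq (O_pig _ _) o c iv n)
  have pP := O_pig {p} C1[b]
  have oP : PiG {2}ᶜ O[{p}](C1[b]) := pP.ne_compl p2
  have nP : X ≤ N[O[{p}](C1[b])] := inf_le_right.trans (O_norm _ _)
  have := pq_lemma (Q := zpowers a) (pP.sup_l pX nP).nil le_sup_right le_sup_left
    (C_zpowers a ▸ inf_le_left.trans (O_le _ _)) (cop2 h.oa oP) nP
    (zpowers_le.2 (O_norm _ _ (h.SC h.bA (h.le h.aA)))) (C_zpowers a ▸ (h.th (h.N_ne X0 (pX.ne_compl p2))
      SX (cents_norm inf_le_right) (oP.of_le inf_le_left)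
      (normI ((h.SC h.bA).trans (O_norm _ _)) (normC SX))).trans e)
  rw [← h.cjC, ← cj_O, ← h.g3, ← cj_zpowers, cent_cj, h.g3, zpowers_le] at this
  rw [le_C1_iff, ← h.aab]
  exact mul_mem (le_C1_iff.1 (O_le _ _)) this

theorem K_le : KK a b ≤ O'[C1[a]] := commL (zpowers_le.2 (O_norm _ _ (h.SC h.aA (h.le h.bA))))
theorem K_odd : PiG {2}ᶜ (KK a b) := (O_pig _ _).of_le h.K_le
theorem K_H : KK a b ≤ C1[a] := h.K_le.trans (O_le _ _)

theorem K_cF : KK a b ≤ C[F[C1[a]]] := cent_symm (F_le_of_O fun p hp => cent_symm (by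
  have n := (O_le {2}ᶜ C1[a]).trans (O_norm {p} _)
  by_cases p2 : p = 2
  · exact p2 ▸ h.K_le.trans (O_cent_O' _ _)
  rcases h.dich p2 with e | e
  · exact (commS le_rfl (zpowers_le.2 (le_C1_iff.1 e))).trans (commR (normC n))
  · exact (iv_of_fpf h.ob ((O_pig _ _).ne_compl p2) (O_norm _ _ (h.SC h.aA (h.le h.bA))) e).comm_cent
      h.ob n))

theorem K_F : KK a b ≤ F[C1[a]] := (le_inf h.K_H h.K_cF).trans (C_F_le' h.lay)
theorem K_abel : Abel (KK a b) := h.K_cF.trans (centS h.K_F)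
theorem K_iv : Iv b (KK a b) := iv_comm h.ob (O_pig _ _) (O_norm _ _ (h.SC h.aA (h.le h.bA))) h.K_abel

theorem K_normC : C[A] ≤ N[KK a b] :=
  normR ((C_le_C1 h.aA).trans (O_norm _ _)) (norm_zpowers (C_le_C1 h.bA))

theorem K_norm : C1[a] ≤ N[KK a b] := h.zC.sup.ge.trans (sup_le h.K_normC (comm_norml _ _))

theorem K_prod : IsProd (KK a b) C[A] C1[a] := isProd_of_l h.K_normC (le_antisymm
  (sup_le h.K_H (C_le_C1 h.aA)) (h.zC.sup.ge.trans (sup_le le_sup_right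
    ((prod2 h.ob (O_pig _ _) (O_norm _ _ (h.SC h.aA (h.le h.bA)))).sup.ge.trans
      (sup_le_sup_left (h.CA ▸ inf_le_inf_right _ (O_le _ _)) _)))))

theorem K_ne : KK a b ≠ ⊥ := fun e => h.nc (by rw [← h.K_prod.sup, e, bot_sup_eq])

theorem N_K : N[KK a b] = C1[a] := h.N_eq h.K_H h.K_norm h.K_ne

theorem le_K (h1 : W ≤ C1[a]) (ho : PiG {2}ᶜ W) (ht : t ∈ A) (iv : Iv t W) : W ≤ KK a b :=
  (iv.le_comm ho).trans ((commS (h1.trans h.K_prod.sup.ge) (zpowers_le.2 ht)).trans (comm_sup_le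
    (commL (h.abel.trans h.K_normC)) ((comm_eq_bot.2 le_rfl).trans_le bot_le) (normG _) h.K_normC))

theorem iv_of_inv (ht : orderOf t = 2) (h1 : t ∈ C1[a]) (h2 : t ≠ a) : Iv t (KK a b) := by
  obtain ⟨k, hk, e⟩ := h.exists_cj (sq_of_ord2 ht) (h.SC h.aA) h1
  have : Iv (k * t * k⁻¹) (KK a b) := by
    rcases h.memA e with e | e | e | e
    · exact absurd (by simpa using e) (ne_one_of_ord2 ht)
    · rw [mul_inv_eq_iff_eq_mul, ← mem_C1.1 hk] at e
      exact absurd (mul_left_cancel e) h2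
    · exact e ▸ h.K_iv
    · exact e ▸ h.K_iv.cent_mul (le_C1_iff.1 h.K_H)
  simpa [mul_assoc] using this.conj (inv_mem (h.K_norm hk))

theorem C_y (hy : y ∈ KK a b) (y1 : y ≠ 1) : C1[y] ≤ C1[a] := by
  have ay : a ∈ C1[y] := C1_symm (h.K_H hy)
  have n : ∀ {X : Subgroup G}, X ≤ N[zpowers y] → X ≤ N[O'[C1[y]]] := fun e =>
    normO _ (C_zpowers y ▸ normC e)
  have nA : A ≤ N[zpowers y] := fun x hx => by
    rcases h.memA hx with rfl | rfl | rfl | rfl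
    · exact one_mem _
    · exact norm_zpowers le_rfl ay
    · exact (h.K_iv.of_le (zpowers_le.2 hy)).norm
    · exact mul_mem (norm_zpowers le_rfl ay) (h.K_iv.of_le (zpowers_le.2 hy)).norm
  have e := h.cent_Y (O_pig {2}ᶜ C1[y]) (n nA h.aA) ⟨h.max, h.lay, _, le_rfl, inf_le_left,
    n (norm_zpowers (le_C1_iff.2 (h.K_cF hy)))⟩ fun q hq c iv => by
      have o := (O_pig {2}ᶜ C1[y]).of_le (O_le {q} _)
      have k : ∀ {b g}, MC S A a b g → O[{q}](O'[C1[y]]) ⊓ C1[b] = ⊥ := fun {b g} h =>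
        ((O_pig _ _).of_le inf_le_left).eq_bot (PiG.of_le ((pin_compl hq).2 (h.cardF ▸ c))
          ((h.rot.le_K inf_le_right (o.of_le inf_le_left) h.aA (iv.of_le inf_le_left)).trans h.rot.K_F))
      exact h.gen_bot o (normO _ (n nA)) iv (k h) (k h.symm)
  obtain ⟨P, hP, le⟩ := syl_superset Nat.prime_two (zpowers_le.2 ay) (pig2 h.oa)
  refine cent2' h.oa (H8.zstar_rel h.oa ay hP fun k hk hk' => by_contra fun ne => y1 ?_) (O_pig _ _) e
  have o := (orderOf_conj' k a).trans h.oa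
  exact one_of_inv (PiG.odd h.K_odd hy) (h.iv_of_inv o (mem_C1.2
    (h.central hP.pi (le (mem_zpowers a)) (h.sqA h.aA) hk')) ne y hy) (C1_symm (hP.le hk'))

end MC

end Cfsg.Agent.Gs
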